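import Groth.Agent.Lib.H1.Grosshans.Decomp
import Groth.Agent.H1.Obs.UFG.Torus
import Groth.Agent.H1.Obs.Mod
import Groth.Agent.H1.Obs.UnipAlg

/-!
# The big cell of a connected reductive group, in terms of the group scheme
-/

universe u

open CategoryTheory MonoidalCategory CartesianMonoidalCategory MonObj GrpObj AlgebraicGeometry
open scoped TensorProduct

namespace Groth.Agent.Lib.H1.Grosshans

set_option linter.style.haveILetI false
set_option linter.unusedSectionVars false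

open LaurentPolynomial WithConv
open Groth.Agent.Lib.RedPts Groth.Agent.Lib.RedPts.Points Groth.Agent.Lib.GrpSch
open Groth.Agent.H1.Classical Groth.Agent.H1.Classical.Scheme' Groth.Agent.H1.Classical.Torus
  Groth.Agent.H1.Classical.Complete Groth.Agent.H1.Classical.MaxTorusScheme Groth.Agent.H1.Classical.MaxTorusApply
  Groth.Agent.H1.Classical.MaxTorusBorel Groth.Agent.H1.Classical.Unipotent Groth.Agent.H1.Classical.FieldDescent
  Groth.Agent.H1.Classical.Chevalley Groth.Agent.H1.Classical.RadU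
open Groth.Agent.H1.Obs Groth.Agent.H1.Obs.UFG Groth.Agent.H1.RInv
open Groth.Agent.Lib.Dyn85 Groth.Agent.Lib.Dyn85.GmAct

attribute [local instance] baseAlgebra

variable {k : Type u} [Field k] [IsAlgClosed k]

/-- A finite stable subspace containing a vector. -/
theorem exists_finite_stable {G : Over (Spec (CommRingCat.of k))} [GrpObj G] [IsAffine G.left] {M : Type u}
    [AddCommGroup M] [Module k M] (ρ : VecGrp.GMod G M) (v : M) :
    ∃ V : Submodule k M, FiniteDimensional k V ∧ v ∈ V ∧ ∀ (x : P G), ∀ w ∈ V, act ρ x w ∈ V := by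
  classical
  obtain ⟨s, hs⟩ := TensorProduct.exists_finset (R := k)
    (ρ.ρ Γ(G.left, ⊤) (univPt G) ((1 : Γ(G.left, ⊤)) ⊗ₜ v))
  let V : Submodule k M := Submodule.span k (Set.range fun x : P G => act ρ x v)
  have hle : V ≤ Submodule.span k (↑(s.image Prod.snd) : Set M) := Submodule.span_le.mpr fun w ⟨x, hx⟩ => by
    have h := congrArg (TensorProduct.lid k M) (Wmap_univ ρ x v)
    rw [hs, map_sum, map_sum] at h
    simp only [VecGrp.Wmap_tmul, TensorProduct.lid_tmul, one_smul] at h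
    rw [← hx, SetLike.mem_coe]
    show act ρ x v ∈ _
    rw [← h]
    exact Submodule.sum_mem _ fun p hp =>
      Submodule.smul_mem _ _ (Submodule.subset_span (Finset.mem_coe.mpr (Finset.mem_image_of_mem _ hp)))
  refine ⟨V, ?_, Submodule.subset_span ⟨1, Groth.Agent.H1.Obs.act_one ρ v⟩, fun x w hw => ?_⟩
  · haveI : FiniteDimensional k (Submodule.span k (↑(s.image Prod.snd) : Set M)) :=
      FiniteDimensional.span_finset k _
    exact Submodule.finiteDimensional_of_le hle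
  · have : V ≤ V.comap (act ρ x) := Submodule.span_le.mpr fun w ⟨y, hy⟩ =>
      Submodule.subset_span ⟨x * y, by rw [← hy]; exact Groth.Agent.H1.Obs.act_mul ρ x y v⟩
    exact this hw

variable {G B U : Over (Spec (CommRingCat.of k))} [GrpObj G] [GrpObj B] [GrpObj U]

/-- The points of the unipotent radical of a Borel subgroup are its unipotent points. -/
theorem radical_pts [IsAffine G.left] [Smooth G.hom] [ConnectedSpace G.left] {iB : B ⟶ G}
    (hB : Red.IsBorelOver k iB) {u : U ⟶ B} (hU : Par.IsUnipotentRadical u)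
    {A : Type u} [CommRing A] [HopfAlgebra k A] [Algebra.FiniteType k A] [IsDomain A] (e : G ≅ GA k A) [IsMonHom e.hom]
    {W : Type u} [AddCommGroup W] [Module k W] [FiniteDimensional k W] {σ : Representation k (HopfPts.Pt k A) W}
    (hσ : GenRep.Gen (HopfPts.D k A) σ) (χ : HopfPts.Pt k A) :
    (∃ z : P U, (z ≫ u ≫ iB : P G) = toP e χ) ↔ (∃ y : P B, y ≫ iB = toP e χ) ∧ IsNilpotent (σ χ - 1) := by
  haveI := hB.1
  haveI := hB.2.1
  haveI := hU.1
  obtain ⟨hm, hUaff, hUsm, hUc, hno⟩ := props_of_radical hB hU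
  haveI := hm
  haveI := hUaff
  haveI := hUsm
  haveI := hUc
  constructor
  · rintro ⟨z, hz⟩
    refine ⟨⟨z ≫ u, by rw [Category.assoc]; exact hz⟩, ?_⟩
    refine nilp_of_noTorsion hno ((u ≫ iB) ≫ e.hom) hσ χ ⟨z, ?_⟩
    show z ≫ (u ≫ iB) ≫ e.hom = _
    rw [← Category.assoc z, hz, toP_comp]
  · rintro ⟨⟨y, hy⟩, hnil⟩
    have hbor := isBor_ptsOf (iB ≫ e.hom) (isBorelOver_comp hB e)
    haveI := hbor.solv
    obtain ⟨T₀, U₀, τ, hs⟩ := Split.exists_split ((HopfPts.D k A).restrict _ hbor.cl)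
      (((HopfPts.D k A).sirr_restrict).mpr (by rw [Set.image_univ, Subtype.range_coe_subtype]; exact hbor.irr))
      (σ.comp (ptsOf (iB ≫ e.hom)).subtype) (GenRep.Gen.restrict (HopfPts.D k A) hσ (ptsOf (iB ≫ e.hom)) hbor.cl)
    have hmem : χ ∈ ptsOf (iB ≫ e.hom) := ⟨y, by
      show y ≫ iB ≫ e.hom = _
      rw [← Category.assoc, hy, toP_comp]⟩
    exact unipotent_mem_radical e hB hU hσ hs ⟨χ, hmem⟩ ((hs.nilp ⟨χ, hmem⟩).mp hnil)

/-- The data of a big cell. -/
structure BigCell (G B U : Over (Spec (CommRingCat.of k))) [GrpObj G] [GrpObj B] [GrpObj U] (iB : B ⟶ G) (u : U ⟶ B) where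
  lp : kˣ → P G
  lc : Γ(G.left, ⊤) →ₐ[k] k[T;T⁻¹]
  ev_lp : ∀ x f, ev (lp x) f = evR (AlgHom.id k k) x (lc f)
  Ts : Subgroup (P G)
  Us : Subgroup (P G)
  Ns : Subgroup (P G)
  lp_mem : ∀ x, lp x ∈ Ts
  lp_mul : ∀ x y, lp (x * y) = lp x * lp y
  norm : ∀ t ∈ Ts, ∀ g ∈ Us, t⁻¹ * g * t ∈ Us
  comm : ∀ t ∈ Ts, ∀ s ∈ Ts, t * s = s * t
  diag : ∀ {M : Type u} [AddCommGroup M] [Module k M] (ρ : VecGrp.GMod G M) (v : M),
    v ∈ Submodule.span k {w | ∀ t ∈ Ts, ∃ c : k, act ρ t w = c • w}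
  raise : ∀ g ∈ Us, ∀ f, ∃ L : k[T;T⁻¹], (∀ x, ev (lp x * g * (lp x)⁻¹) f = evR (AlgHom.id k k) x L) ∧
    (∀ n < 0, L.coeff n = 0) ∧ L.coeff 0 = ev 1 f
  lower : ∀ g ∈ Ns, ∀ f, ∃ L : k[T;T⁻¹], (∀ x, ev (lp x * g * (lp x)⁻¹) f = evR (AlgHom.id k k) x L) ∧
    (∀ n > 0, L.coeff n = 0) ∧ L.coeff 0 = ev 1 f
  a0 : P G
  mem_Us : ∀ g, g ∈ Us ↔ ∃ z : P U, g = a0 * (z ≫ u ≫ iB) * a0⁻¹
  B2 : Over (Spec (CommRingCat.of k))
  grpB2 : GrpObj B2
  iB2 : B2 ⟶ G
  hB2 : @Red.IsBorelOver k _ B2 G grpB2 _ iB2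
  U2 : Over (Spec (CommRingCat.of k))
  grpU2 : GrpObj U2
  u2 : U2 ⟶ B2
  hU2 : letI := grpB2; letI := grpU2; Par.IsUnipotentRadical u2
  mem_Ns : ∀ g, g ∈ Ns ↔ ∃ z : P U2, (z ≫ u2 ≫ iB2 : P G) = g
  split_B2 : ∀ y : P B2, ∃ t ∈ Ts, ∃ n ∈ Ns, y ≫ iB2 = t * n
  Ts_B2 : ∀ t ∈ Ts, ∃ y : P B2, y ≫ iB2 = t
  h : Γ(G.left, ⊤)
  h_ne : h ≠ 0
  cell : ∀ x, ev x h ≠ 0 → ∃ n ∈ Ns, ∃ t ∈ Ts, ∃ v ∈ Us, x = n * (t * v)

theorem nilp_conj {R : Type*} [Ring R] {a b x : R} (h : a * b = 1) (h' : b * a = 1) (hx : IsNilpotent (x - 1)) :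
    IsNilpotent (a * x * b - 1) := by
  obtain ⟨N, hN⟩ := hx
  refine ⟨N, ?_⟩
  have : ∀ m, (a * x * b - 1) ^ m = a * (x - 1) ^ m * b := fun m => by
    induction m with
    | zero => rw [pow_zero, pow_zero, _root_.mul_one, h]
    | succ m ih =>
      rw [pow_succ, ih, pow_succ, show a * x * b - 1 = a * (x - 1) * b by rw [mul_sub, _root_.mul_one, sub_mul, h]]
      calc a * (x - 1) ^ m * b * (a * (x - 1) * b) = a * (x - 1) ^ m * (b * a) * (x - 1) * b := by
            simp only [_root_.mul_assoc]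
        _ = a * ((x - 1) ^ m * (x - 1)) * b := by rw [h', _root_.mul_one]; simp only [_root_.mul_assoc]
  rw [this, hN, mul_zero, zero_mul]

set_option maxHeartbeats 2000000 in
/-- A connected reductive group has a big cell. -/
theorem exists_bigCell (hG : Red.IsReductiveOver k G) {iB : B ⟶ G} (hB : Red.IsBorelOver k iB) {u : U ⟶ B}
    (hU : Par.IsUnipotentRadical u) : Nonempty (BigCell G B U iB u) := by
  classical
  obtain ⟨hGa, hGs, hGc, hrad⟩ := hG
  haveI := hGa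
  haveI := hGs
  haveI := hGc
  haveI := hB.1
  haveI := hB.2.1
  obtain ⟨A, _, _, _, _, e, he⟩ := exists_GA G
  haveI := he
  haveI := locallyOfFiniteType_GA (k := k) (A := A)
  haveI : IsMonHom e.inv := inferInstance
  haveI : IsIso e.hom.left := ((Over.forget _).mapIso e).isIso_hom
  haveI : IsIso e.inv.left := ((Over.forget _).mapIso e).isIso_inv
  haveI : Algebra.Smooth k A := by
    have h : Smooth (GA k A).hom := by rw [← Over.w e.inv]; infer_instance
    have h' : Smooth (Spec.map (CommRingCat.ofHom (algebraMap k A))) := h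
    rw [HasRingHomProperty.Spec_iff (P := @Smooth)] at h'
    exact RingHom.smooth_algebraMap.mp h'
  obtain ⟨W, _, σ, hσ⟩ := GenRep.exists_gen (HopfPts.D k A) hasMul_pts pts_ext
  have hR : ∀ C : Subgroup (HopfPts.Pt k A), (HopfPts.D k A).IsCl C → (HopfPts.D k A).SIrr C → C.Normal →
      Group.IsSolvable C → (∀ c ∈ C, IsNilpotent (σ c - 1)) → C = ⊥ := by
    intro C hCcl hCirr hCn hCsol hCnil
    haveI := hCsol
    obtain ⟨N, _, c, hc1, hc2, hc3, hc4, -, hfac, hpt⟩ := exists_subgroup C hCcl hCirr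
    haveI := hc1
    haveI := hc2
    haveI := hc3
    haveI := hc4
    haveI : IsAffine N.left := isAffine_of_isAffineHom c.left
    haveI : Mono c := Over.mono_of_mono_left c
    haveI : IsClosedImmersion (c ≫ e.inv).left := by rw [Over.comp_left]; infer_instance
    have hnoN : NoTorsion N := fun x m hm hx => by
      obtain ⟨s, hs, hxs⟩ := hpt x
      have hsm : s ^ m = 1 := ptHom_injective (by
        rw [map_pow, ← hxs, ← Unipotent.pow_comp, hx, MonObj.one_comp, map_one])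
      rw [← cancel_mono c, MonObj.one_comp, hxs, Cartan.eq_one_of_nilp hσ.faith hm hsm (hCnil s hs), map_one]
    have hNn : IsNormalPts (c ≫ e.inv) := fun g w => by
      obtain ⟨a, ha⟩ := ptHom_surjective (g ≫ e.hom)
      obtain ⟨s, hs, hws⟩ := hpt w
      obtain ⟨w', hw'⟩ := hfac (𝟙_ _) (ptHom _ (a * s * a⁻¹)) fun b hb => by
        rw [algHomOf_ptHom, hb _ (hCn.conj_mem s hs a), map_zero]
      refine ⟨w', ?_⟩
      rw [← cancel_mono e.hom, MonObj.mul_comp, MonObj.mul_comp, GrpObj.inv_comp]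
      simp only [Category.assoc, e.inv_hom_id, Category.comp_id]
      rw [hw', hws, map_mul, map_mul, map_inv, ha]
    haveI : IsIso N.hom := hrad N (c ≫ e.inv) inferInstance hc3 hc4 (isNormalHom_of_pts _ hNn)
      (hasNoSubtorus_of_noTorsion hnoN)
    refine (Subgroup.eq_bot_iff_forall C).mpr fun s hs => ?_
    obtain ⟨w, hw⟩ := hfac (𝟙_ _) (ptHom _ s) fun b hb => by rw [algHomOf_ptHom, hb _ hs, map_zero]
    have h1 : w = 1 := Over.OverMorphism.ext (by rw [← cancel_mono N.hom, Over.w, Over.w])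
    rw [h1, MonObj.one_comp] at hw
    exact ptHom_injective (by rw [← hw, map_one])
  have hbor := isBor_ptsOf (iB ≫ e.hom) (isBorelOver_comp hB e)
  obtain ⟨lam, T, B₁, B₂, c, h, hB₁, hB₂, hT, hmem, hTB₁, hTB₂, hUB₁, hB₁s, hB₁n, hB₂s, hUn, hNn, hNB₂, hB₂n, hh,
    hcell⟩ := exists_triangle hbor hσ hR
  -- the opposite Borel subgroup as a scheme
  obtain ⟨C, _, c₂, hC, hfac, hpt⟩ :=
    exists_borel_of_isMax (Image.isMax_of_absorbing hB₂.cl hB₂.irr hB₂.solv hB₂.abs)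
  haveI := hC.1
  haveI := hC.2.1
  haveI := hC.2.2.1
  haveI := hC.2.2.2.1
  haveI : IsMonHom e.symm.hom := inferInstanceAs (IsMonHom e.inv)
  have hC' : Red.IsBorelOver k (c₂ ≫ e.inv) := isBorelOver_comp hC e.symm
  haveI : IsAffine C.left := isAffine_of_isAffineHom c₂.left
  obtain ⟨V, _, v, hv1, hv2, hv3, hv4, hv5, hv6, hvfac, -⟩ := exists_unipPart C hC.2.2.2.2.1
  haveI := hv1
  haveI := hv2
  haveI := hv3
  haveI := hv4
  haveI : IsAffine V.left := isAffine_of_isAffineHom v.left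
  have hV := UnipotentRadical.isUnipotentRadical_of hv5 v hv1 hv2 hv6 hvfac
  have hB₂pt : ∀ χ, χ ∈ B₂ ↔ ∃ y : P C, y ≫ c₂ ≫ e.inv = toP e χ := fun χ => by
    constructor
    · intro hχ
      obtain ⟨y, hy⟩ := hfac (𝟙_ _) (ptHom _ χ) fun b hb => by rw [algHomOf_ptHom, hb _ hχ, map_zero]
      exact ⟨y, by rw [← cancel_mono e.hom, toP_comp]; simp [hy]⟩
    · rintro ⟨y, hy⟩
      obtain ⟨s, hs, hys⟩ := hpt y
      have : χ = s := ptHom_injective (by rw [← hys, ← toP_comp e, ← hy]; simp)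
      rwa [this]
  choose z hz using fun f => exists_coord e f
  have hzu : ∀ {a b : A}, (∀ χ : HopfPts.Pt k A, χ.ofConv a = χ.ofConv b) → a = b := fun h =>
    HopfPts.ev_injective k A (funext h)
  let ψ : Γ(G.left, ⊤) →ₐ[k] A :=
    { toFun := z
      map_one' := hzu fun χ => by rw [← hz, map_one, map_one]
      map_mul' := fun f g => hzu fun χ => by rw [map_mul, ← hz, ← hz, ← hz, map_mul]
      map_zero' := hzu fun χ => by rw [← hz, map_zero, map_zero]
      map_add' := fun f g => hzu fun χ => by rw [map_add, ← hz, ← hz, ← hz, map_add]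
      commutes' := fun r => hzu fun χ => by rw [← hz, ev_const, AlgHom.commutes]; rfl }
  have hψ : ∀ f (χ : HopfPts.Pt k A), ev (toP e χ) f = χ.ofConv (ψ f) := fun f χ => hz f χ
  have hone : ∀ f, ev (1 : P G) f = Coalgebra.counit (R := k) (ψ f) := fun f => by
    rw [← map_one (toP e), hψ]
    simp [AlgHom.convOne_def]
  obtain ⟨h₁, hh₁⟩ := exists_fun e h
  refine ⟨{
    lp := fun x => toP e (lamPt (R := k) lam x)
    lc := (lam : A →ₐ[k] k[T;T⁻¹]).comp ψ
    ev_lp := fun x f => ?_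
    Ts := T.map (toP e)
    Us := (ptsSub ((ofLam lam).U k)).map (toP e)
    Ns := (ptsSub ((ofLam lam).neg.U k)).map (toP e)
    lp_mem := fun x => Subgroup.mem_map_of_mem _ (hmem x)
    lp_mul := fun x y => by rw [lamPt_mul, map_mul]
    norm := ?_
    comm := ?_
    diag := ?_
    raise := ?_
    lower := ?_
    a0 := toP e c
    mem_Us := ?_
    B2 := C
    grpB2 := inferInstance
    iB2 := c₂ ≫ e.inv
    hB2 := hC'
    U2 := V
    grpU2 := inferInstance
    u2 := v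
    hU2 := hV
    mem_Ns := ?_
    split_B2 := ?_
    Ts_B2 := ?_
    h := h₁
    h_ne := ?_
    cell := ?_ }⟩
  · rw [hψ]
    rfl
  · rintro _ ⟨t, ht, rfl⟩ _ ⟨g, hg, rfl⟩
    refine ⟨t⁻¹ * g * t, hB₁n _ ?_ ?_, by rw [map_mul, map_mul, map_inv]⟩
    · exact B₁.mul_mem (B₁.mul_mem (B₁.inv_mem (hTB₁ ht)) (hUB₁ hg)) (hTB₁ ht)
    · rw [map_mul, map_mul]
      refine nilp_conj (a := σ t⁻¹) (b := σ t) ?_ ?_ (hUn g hg)
      · rw [← map_mul, inv_mul_cancel, map_one]
      · rw [← map_mul, mul_inv_cancel, map_one]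
  · rintro _ ⟨t, ht, rfl⟩ _ ⟨s, hs, rfl⟩
    rw [← map_mul, ← map_mul, hT.tor.comm t ht s hs]
  · intro M _ _ ρ w
    obtain ⟨X, hXfin, hwX, hX⟩ := exists_finite_stable ρ w
    haveI := hXfin
    let π : Representation k (HopfPts.Pt k A) X :=
      { toFun := fun χ => (act ρ (toP e χ)).restrict (hX _)
        map_one' := LinearMap.ext fun w => Subtype.ext (by
          show act ρ (toP e 1) (w : M) = w
          rw [map_one, Groth.Agent.H1.Obs.act_one])
        map_mul' := fun χ χ' => LinearMap.ext fun w => Subtype.ext (by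
          show act ρ (toP e (χ * χ')) (w : M) = act ρ (toP e χ) (act ρ (toP e χ') (w : M))
          rw [map_mul, Groth.Agent.H1.Obs.act_mul]) }
    have hπ : Kolchin.EndFn (HopfPts.D k A).R (fun χ => π χ) := fun w l => by
      obtain ⟨l', hl'⟩ := LinearMap.exists_extend l
      refine ⟨ψ (coef ρ l' w), funext fun χ => ?_⟩
      show χ.ofConv (ψ (coef ρ l' w)) = l (π χ w)
      rw [← hψ, ev_coef, ← hl']
      rfl
    obtain ⟨b, hb⟩ := Centraliser.exists_diag hT.tor hπ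
    have hw : w = ∑ i, b.repr ⟨w, hwX⟩ i • (b i : M) := by
      have h := congrArg Subtype.val (b.sum_repr ⟨w, hwX⟩)
      simp only [Submodule.coe_sum, Submodule.coe_smul] at h
      exact h.symm
    rw [hw]
    refine Submodule.sum_mem _ fun i _ => Submodule.smul_mem _ _ (Submodule.subset_span ?_)
    rintro _ ⟨t, ht, rfl⟩
    obtain ⟨r, hr⟩ := hb t ht i
    exact ⟨r, congrArg Subtype.val hr⟩
  · rintro _ ⟨g, hg, rfl⟩ f
    obtain ⟨hP, h0⟩ := (GmAct.mem_U_iff _).mp (show g ∈ (ofLam lam).U k from hg)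
    refine ⟨(ofLam lam).pt k g (ψ f), fun x => ?_, fun n hn => ?_, ?_⟩
    · rw [← map_inv, ← map_mul, ← map_mul, hψ]
      exact eval_pt lam g (ψ f) x
    · rw [GmAct.coeff_pt]
      exact (GmAct.mem_P_iff _).mp hP n hn _
    · rw [GmAct.coeff_pt, h0, hone]
      rfl
  · rintro _ ⟨g, hg, rfl⟩ f
    obtain ⟨hP, h0⟩ := (GmAct.mem_U_iff _).mp (show g ∈ (ofLam lam).neg.U k from hg)
    refine ⟨(ofLam lam).pt k g (ψ f), fun x => ?_, fun n hn => ?_, ?_⟩
    · rw [← map_inv, ← map_mul, ← map_mul, hψ]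
      exact eval_pt lam g (ψ f) x
    · rw [GmAct.coeff_pt]
      have h1 := (GmAct.mem_P_iff _).mp hP (-n) (by omega) (ψ f)
      rwa [GmAct.neg_π, neg_neg] at h1
    · have h1 := h0 (ψ f)
      rw [GmAct.neg_π, neg_zero] at h1
      rw [GmAct.coeff_pt, h1, hone]
      rfl
  · intro g
    constructor
    · rintro ⟨χ, hχ, rfl⟩
      have hχ1 : χ ∈ B₁ := hUB₁ hχ
      rw [hB₁] at hχ1
      obtain ⟨b, hb, hbc'⟩ := hχ1
      have hbc : c * b * c⁻¹ = χ := hbc'
      have hnil : IsNilpotent (σ b - 1) := by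
        have h1 : b = c⁻¹ * χ * c := by rw [← hbc]; group
        rw [h1, map_mul, map_mul]
        refine nilp_conj (a := σ c⁻¹) (b := σ c) ?_ ?_ (hUn χ hχ)
        · rw [← map_mul, inv_mul_cancel, map_one]
        · rw [← map_mul, mul_inv_cancel, map_one]
      obtain ⟨y, hy⟩ := exists_point_borel e (iB := iB) ⟨b, hb⟩
      obtain ⟨w, hw⟩ := (radical_pts hB hU e hσ b).mpr ⟨⟨y, hy⟩, hnil⟩
      exact ⟨w, by rw [hw, ← map_inv, ← map_mul, ← map_mul, hbc]⟩
    · rintro ⟨w, rfl⟩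
      obtain ⟨b, hb⟩ := toP_surjective e (w ≫ u ≫ iB)
      obtain ⟨⟨y, hy⟩, hnil⟩ := (radical_pts hB hU e hσ b).mp ⟨w, hb.symm⟩
      refine ⟨c * b * c⁻¹, hB₁n _ ?_ ?_, by rw [map_mul, map_mul, map_inv, hb]⟩
      · rw [hB₁]
        exact ⟨b, ⟨y, by show y ≫ iB ≫ e.hom = _; rw [← Category.assoc, hy, toP_comp]⟩, rfl⟩
      · rw [map_mul, map_mul]
        refine nilp_conj (a := σ c) (b := σ c⁻¹) ?_ ?_ hnil
        · rw [← map_mul, mul_inv_cancel, map_one]
        · rw [← map_mul, inv_mul_cancel, map_one]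
  · intro g
    constructor
    · rintro ⟨χ, hχ, rfl⟩
      exact (radical_pts hC' hV e hσ χ).mpr ⟨(hB₂pt χ).mp (hNB₂ χ hχ), hNn χ hχ⟩
    · rintro ⟨w, rfl⟩
      obtain ⟨b, hb⟩ := toP_surjective e (w ≫ v ≫ c₂ ≫ e.inv)
      obtain ⟨hy, hnil⟩ := (radical_pts hC' hV e hσ b).mp ⟨w, hb.symm⟩
      exact ⟨b, hB₂n b ((hB₂pt b).mpr hy) hnil, hb⟩
  · intro y
    obtain ⟨b, hb⟩ := toP_surjective e (y ≫ c₂ ≫ e.inv)
    obtain ⟨t, ht, n, hn, hbe⟩ := hB₂s b ((hB₂pt b).mpr ⟨y, hb.symm⟩)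
    exact ⟨_, Subgroup.mem_map_of_mem _ ht, _, Subgroup.mem_map_of_mem _ hn, by rw [← hb, hbe, map_mul]⟩
  · rintro _ ⟨t, ht, rfl⟩
    exact (hB₂pt t).mp (hTB₂ ht)
  · intro h0
    refine hh (hzu fun χ => ?_)
    rw [← hh₁, h0, map_zero, map_zero]
  · intro x hx
    obtain ⟨χ, rfl⟩ := toP_surjective e x
    rw [hh₁] at hx
    obtain ⟨n, hn, t, ht, w, hw, rfl⟩ := hcell χ hx
    exact ⟨_, Subgroup.mem_map_of_mem _ hn, _, Subgroup.mem_map_of_mem _ ht, _, Subgroup.mem_map_of_mem _ hw, by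
      rw [map_mul, map_mul]⟩

end Groth.Agent.Lib.H1.Grosshans
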