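import Groth.Agent.Lib.H1.Grosshans.Weights
import Groth.Agent.H1.Obs.UFG.Components
import Groth.Agent.H1.Obs.UFG.Lift
import Mathlib.RingTheory.IntegralClosure.Algebra.Basic

/-!
# An algebra is finite over a stable subalgebra containing its invariants under a maximal unipotent subgroup
-/

universe u

open CategoryTheory MonoidalCategory CartesianMonoidalCategory MonObj GrpObj AlgebraicGeometry
open scoped TensorProduct

namespace Groth.Agent.Lib.H1.Grosshans

set_option linter.style.haveILetI false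
set_option linter.unusedSectionVars false

open Groth.Agent.Lib.RedPts Groth.Agent.Lib.RedPts.Points
open Groth.Agent.H1.Classical.Scheme' Groth.Agent.H1.Obs Groth.Agent.H1.Obs.UFG Groth.Agent.H1.RInv

attribute [local instance] baseAlgebra

variable {k : Type u} [Field k]

/-- A stable subspace contains the isotypic parts of its elements. -/
theorem eigen_mem {V I J : Type*} [AddCommGroup V] [Module k V] (T : I → V →ₗ[k] V) (W : Submodule k V)
    (hW : ∀ t, ∀ w ∈ W, T t w ∈ W) (χ : J → I → k) (χ₀ : I → k) [DecidableEq (I → k)] :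
    ∀ (s : Finset J) (v : J → V), (∀ j ∈ s, ∀ t, T t (v j) = χ j t • v j) → ∑ j ∈ s, v j ∈ W →
      ∑ j ∈ s.filter (fun j => χ j = χ₀), v j ∈ W := by
  intro s
  induction s using Finset.strongInduction with
  | H s ih =>
    intro v hv hsum
    by_cases hall : ∀ j ∈ s, χ j = χ₀
    · rwa [Finset.filter_true_of_mem hall]
    push Not at hall
    obtain ⟨j₁, hj₁, hne⟩ := hall
    obtain ⟨t, ht⟩ := Function.ne_iff.mp hne
    have hs' : s.filter (fun j => χ j ≠ χ j₁) ⊂ s := Finset.filter_ssubset.mpr ⟨j₁, hj₁, by simp⟩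
    have h1 : ∑ j ∈ s.filter (fun j => χ j ≠ χ j₁), (χ j t - χ j₁ t) • v j ∈ W := by
      have h2 : T t (∑ j ∈ s, v j) - χ j₁ t • ∑ j ∈ s, v j = ∑ j ∈ s, (χ j t - χ j₁ t) • v j := by
        rw [map_sum, Finset.smul_sum, ← Finset.sum_sub_distrib]
        exact Finset.sum_congr rfl fun j hj => by rw [hv j hj, sub_smul]
      rw [Finset.sum_filter_of_ne (p := fun j => χ j ≠ χ j₁) fun j _ h e => h (by rw [e, sub_self, zero_smul])]
      rw [← h2]
      exact W.sub_mem (hW t _ hsum) (W.smul_mem _ hsum)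
    have h3 := ih _ hs' (fun j => (χ j t - χ j₁ t) • v j)
      (fun j hj u => by rw [map_smul, hv j (Finset.filter_subset _ _ hj), smul_comm]) h1
    rw [Finset.filter_filter, Finset.filter_congr (q := fun j => χ j = χ₀) fun j _ =>
      ⟨fun h => h.2, fun h => ⟨fun e => hne (e.symm.trans h), h⟩⟩,
      Finset.sum_congr rfl fun j hj => by rw [(Finset.mem_filter.mp hj).2], ← Finset.smul_sum] at h3
    have h4 := W.smul_mem (χ₀ t - χ j₁ t)⁻¹ h3
    rwa [smul_smul, inv_mul_cancel₀ (sub_ne_zero.mpr ht.symm), one_smul] at h4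

variable [IsAlgClosed k] {G B U : Over (Spec (CommRingCat.of k))} [GrpObj G] [GrpObj B]
  [GrpObj U] [IsAffine G.left] [Smooth G.hom]

/-- Inversion on functions. -/
noncomputable def invF : Γ(G.left, ⊤) →ₐ[k] Γ(G.left, ⊤) :=
  { ((𝟙 G : G ⟶ G)⁻¹).left.appTop.hom with
    commutes' := fun c => by
      have h := congrArg (fun f => f.hom ((Scheme.ΓSpecIso (CommRingCat.of k)).inv c))
        (congrArg Scheme.Hom.appTop (Over.w ((𝟙 G : G ⟶ G)⁻¹)))
      simp only [Scheme.Hom.comp_appTop, CommRingCat.hom_comp, RingHom.comp_apply] at h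
      exact h }

theorem ev_invF (x : P G) (f : Γ(G.left, ⊤)) : ev x (invF f) = ev x⁻¹ f := by
  show ev x (((𝟙 G : G ⟶ G)⁻¹).left.appTop f) = _
  rw [← ev_comp, GrpObj.comp_inv, Category.comp_id]

variable {A : Type u} [CommRing A] [Algebra k A] (ρ : VecGrp.GMod G A)

/-- The value of a tensor at a point. -/
noncomputable def val (g : P G) : Γ(G.left, ⊤) ⊗[k] A →ₐ[k] A :=
  Algebra.TensorProduct.lift ((Algebra.ofId k A).comp (evA g)) (AlgHom.id k A) fun _ _ => Commute.all _ _

theorem val_tmul (g : P G) (f : Γ(G.left, ⊤)) (a : A) : val g (f ⊗ₜ[k] a) = ev g f • a := by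
  rw [Algebra.smul_def]
  exact Algebra.TensorProduct.lift_tmul _ _ _ _ _

theorem val_ext {z z' : Γ(G.left, ⊤) ⊗[k] A} (h : ∀ g, val g z = val g z') : z = z' := by
  haveI : IsReduced G.left := Groth.Agent.Lib.GrpSch.isReduced_of_smooth_field G.hom
  refine eq_of_points fun x => (TensorProduct.lid k A).injective ?_
  have key : ∀ w, TensorProduct.lid k A (VecGrp.Wmap (evA x) w) = val x w := fun w => by
    induction w using TensorProduct.induction_on with
    | zero => simp
    | tmul f a => rw [val_tmul, VecGrp.Wmap_tmul, TensorProduct.lid_tmul]; rfl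
    | add p q hp hq => simp only [map_add, hp, hq]
  rw [key, key, h]

variable {iB : B ⟶ G} {u : U ⟶ B} (Bc : BigCell G B U iB u)

/-- The top component of the translates of a vector, as a tensor. -/
noncomputable def psi (n : ℤ) (v : A) : Γ(G.left, ⊤) ⊗[k] A :=
  TensorProduct.map (invF (G := G)).toLinearMap (pr Bc ρ n)
    (ρ.ρ Γ(G.left, ⊤) (univPt G) ((1 : Γ(G.left, ⊤)) ⊗ₜ v))

theorem val_psi (g : P G) (n : ℤ) (v : A) : val g (psi ρ Bc n v) = pr Bc ρ n (act ρ g⁻¹ v) := by
  have key : ∀ w : Γ(G.left, ⊤) ⊗[k] A, val g (TensorProduct.map (invF (G := G)).toLinearMap (pr Bc ρ n) w) =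
      pr Bc ρ n (TensorProduct.lid k A (VecGrp.Wmap (evA g⁻¹) w)) := fun w => by
    induction w using TensorProduct.induction_on with
    | zero => simp
    | tmul f a =>
      rw [TensorProduct.map_tmul, val_tmul, VecGrp.Wmap_tmul, TensorProduct.lid_tmul, map_smul]
      exact congrArg (fun r : k => r • pr Bc ρ n a) (ev_invF g f)
    | add p q hp hq => simp only [map_add, hp, hq]
  rw [psi, key, Wmap_univ, TensorProduct.lid_tmul, one_smul]

/-- The fixed vectors of the positive part. -/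
def fixU : Subalgebra k A → Prop := fun S => ∀ a, (∀ g ∈ Bc.Us, act ρ g a = a) → a ∈ S

set_option maxHeartbeats 8000000 in
set_option synthInstance.maxHeartbeats 200000 in
/-- Grosshans' theorem: finiteness over a stable subalgebra containing the invariants. -/
theorem finite_over [ConnectedSpace G.left] (hρ : ρ.IsMult) (S : Finset A) (hS : ∀ a ∈ S, ∀ g ∈ Bc.Us, act ρ g a = a)
    (hgen : ∀ a, (∀ g ∈ Bc.Us, act ρ g a = a) → a ∈ Algebra.adjoin k (S : Set A))
    (C : Subalgebra k A) (hC : ∀ (x : P G), ∀ c ∈ C, act ρ x c ∈ C) (hSC : (S : Set A) ⊆ C) :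
    ∃ s : Finset A, ∀ a : A, a ∈ Submodule.span C (s : Set A) := by
  classical
  letI := Bc.grpB2
  letI := Bc.grpU2
  have hB2 := Bc.hB2
  have hU2 := Bc.hU2
  haveI := hB2.1
  haveI := hB2.2.1
  haveI : Smooth Bc.B2.hom := hB2.2.2.1
  haveI : ConnectedSpace Bc.B2.left := hB2.2.2.2.1
  haveI : IsAffine Bc.B2.left := isAffine_of_isAffineHom Bc.iB2.left
  haveI : IsReduced Bc.B2.left := Groth.Agent.Lib.GrpSch.isReduced_of_smooth_field Bc.B2.hom
  haveI : IsReduced G.left := Groth.Agent.Lib.GrpSch.isReduced_of_smooth_field G.hom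
  haveI := Groth.Agent.H1.Obs.isDomain_functions G
  haveI : IsNoetherianRing Γ(G.left, ⊤) := isNoetherianRing_Γ (G := G)
  -- generators of the invariants which are eigenvectors
  let Wg : Set A := {w | w ≠ 0 ∧ (∀ g ∈ Bc.Us, act ρ g w = w) ∧
    ∃ (n : ℤ) (c : Bc.Ts → k), Hom Bc ρ n w ∧ ∀ t : Bc.Ts, act ρ (t : P G) w = c t • w}
  have hWg : ∀ a, (∀ g ∈ Bc.Us, act ρ g a = a) → a ∈ Submodule.span k Wg := by
    intro a ha
    obtain ⟨t, ht, -⟩ := exists_support Bc ρ a
    rw [← sum_pr Bc ρ a ht]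
    refine Submodule.sum_mem _ fun n _ => ?_
    let W : Submodule k A :=
      { carrier := {v | (∀ g ∈ Bc.Us, act ρ g v = v) ∧ Hom Bc ρ n v}
        zero_mem' := ⟨fun g _ => map_zero _, fun x => by rw [map_zero, smul_zero]⟩
        add_mem' := fun {p q} hp hq => ⟨fun g hg => by rw [map_add, hp.1 g hg, hq.1 g hg],
          fun x => by rw [map_add, hp.2 x, hq.2 x, smul_add]⟩
        smul_mem' := fun r p hp => ⟨fun g hg => by rw [map_smul, hp.1 g hg],
          fun x => by rw [map_smul, hp.2 x, smul_comm]⟩ }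
    have hWst : ∀ s : Bc.Ts, ∀ v ∈ W, act ρ (s : P G) v ∈ W := fun s v hv => ⟨fun g hg => by
      have h1 := hv.1 _ (Bc.norm _ s.2 g hg)
      calc act ρ g (act ρ (s : P G) v) = act ρ (s : P G) (act ρ ((s : P G)⁻¹ * g * s) v) := by
            rw [← Groth.Agent.H1.Obs.act_mul, ← Groth.Agent.H1.Obs.act_mul]; congr 1; group
        _ = act ρ (s : P G) v := by rw [h1],
      fun x => by rw [← Groth.Agent.H1.Obs.act_mul, lp_comm Bc x s.2, Groth.Agent.H1.Obs.act_mul, hv.2 x, map_smul]⟩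
    have haW : pr Bc ρ n a ∈ W := by
      refine ⟨fun g hg => ?_, hom_pr Bc ρ n a⟩
      let Fx : Submodule k A :=
        { carrier := {v | ∀ g ∈ Bc.Us, act ρ g v = v}
          zero_mem' := fun g _ => map_zero _
          add_mem' := fun {p q} hp hq g hg => by rw [map_add, hp g hg, hq g hg]
          smul_mem' := fun r p hp g hg => by rw [map_smul, hp g hg] }
      refine pr_mem Bc ρ Fx (fun x v hv g' hg' => ?_) (v := a) ha n g hg
      calc act ρ g' (act ρ (Bc.lp x) v) = act ρ (Bc.lp x) (act ρ ((Bc.lp x)⁻¹ * g' * Bc.lp x) v) := by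
            rw [← Groth.Agent.H1.Obs.act_mul, ← Groth.Agent.H1.Obs.act_mul]; congr 1; group
        _ = act ρ (Bc.lp x) v := by rw [hv _ (Bc.norm _ (Bc.lp_mem x) g' hg')]
    obtain ⟨m, hm, hmem⟩ := Submodule.mem_span_finite_of_mem_span (Bc.diag ρ (pr Bc ρ n a))
    obtain ⟨r, -, hr⟩ := Submodule.mem_span_finset.mp hmem
    have hχ : ∀ w : A, ∃ χ : Bc.Ts → k, w ∈ m → ∀ s : Bc.Ts, act ρ (s : P G) w = χ s • w := fun w => by
      by_cases hw : w ∈ m
      · choose χ hχ using fun s : Bc.Ts => hm (Finset.mem_coe.mpr hw) (s : P G) s.2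
        exact ⟨χ, fun _ => hχ⟩
      · exact ⟨fun _ => 0, fun h => absurd h hw⟩
    choose χ hχ using hχ
    rw [← hr, ← Finset.sum_fiberwise_of_maps_to (g := χ) (t := m.image χ)
      (fun w hw => Finset.mem_image_of_mem _ hw)]
    refine Submodule.sum_mem _ fun χ₀ _ => ?_
    by_cases h0 : (∑ w ∈ m.filter (fun w => χ w = χ₀), r w • w) = 0
    · rw [h0]; exact Submodule.zero_mem _
    have hmemW := eigen_mem (fun s : Bc.Ts => act ρ (s : P G)) W hWst χ χ₀ m (fun w => r w • w)
      (fun w hw s => by rw [map_smul, hχ w hw s, smul_comm]) (by rw [hr]; exact haW)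
    refine Submodule.subset_span ⟨h0, hmemW.1, n, χ₀, hmemW.2, fun s => ?_⟩
    rw [map_sum, Finset.smul_sum]
    exact Finset.sum_congr rfl fun w hw => by
      rw [map_smul, hχ w (Finset.mem_filter.mp hw).1 s, (Finset.mem_filter.mp hw).2, smul_comm]
  choose L₀ hL₀ hL₀' using fun a : S => Submodule.mem_span_finite_of_mem_span (hWg a (hS a a.2))
  let G₀ : Finset A := Finset.univ.biUnion L₀
  let J := {w // w ∈ G₀}
  have hJ : ∀ j : J, (j : A) ∈ Wg := fun j => by
    obtain ⟨a, -, ha⟩ := Finset.mem_biUnion.mp j.2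
    exact hL₀ a (Finset.mem_coe.mpr ha)
  let w : J → A := Subtype.val
  have hw0 : ∀ j : J, w j ≠ 0 := fun j => (hJ j).1
  have hwU : ∀ j : J, ∀ g ∈ Bc.Us, act ρ g (w j) = w j := fun j => (hJ j).2.1
  choose ht hc hwn hwc using fun j : J => (hJ j).2.2
  have hgen' : ∀ a, (∀ g ∈ Bc.Us, act ρ g a = a) → a ∈ Algebra.adjoin k (Set.range w) := fun a ha => by
    refine Algebra.adjoin_le (fun b hb => ?_) (hgen a ha)
    refine (Submodule.span_le (p := Subalgebra.toSubmodule (Algebra.adjoin k (Set.range w)))).mpr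
      (fun x hx => Algebra.subset_adjoin ⟨⟨x, Finset.mem_biUnion.mpr ⟨⟨b, hb⟩, Finset.mem_univ _, hx⟩⟩, rfl⟩)
      (hL₀' ⟨b, hb⟩)
  -- monomials
  let mon : (J → ℕ) → A := fun β => ∏ j, w j ^ β j
  have hspan : ∀ a, (∀ g ∈ Bc.Us, act ρ g a = a) → a ∈ Submodule.span k (Set.range mon) := fun a ha => by
    have h1 := hgen' a ha
    rw [← Subalgebra.mem_toSubmodule, Algebra.adjoin_eq_span] at h1
    refine Submodule.span_le.mpr (fun x hx => ?_) h1
    refine Submodule.subset_span ?_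
    induction hx using Submonoid.closure_induction with
    | mem x hx =>
      obtain ⟨j, rfl⟩ := hx
      refine ⟨Pi.single j 1, ?_⟩
      show ∏ l, w l ^ (Pi.single j 1 : J → ℕ) l = w j
      rw [Finset.prod_eq_single j (fun l _ hl => by rw [Pi.single_eq_of_ne hl, pow_zero])
        (fun h => absurd (Finset.mem_univ _) h), Pi.single_eq_same, pow_one]
    | one => exact ⟨0, by simp [mon]⟩
    | mul x y _ _ hx hy =>
      obtain ⟨p, rfl⟩ := hx
      obtain ⟨q, rfl⟩ := hy
      exact ⟨p + q, by simp [mon, pow_add, Finset.prod_mul_distrib]⟩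
  have hcmul : ∀ (j : J) (s t : Bc.Ts), hc j (s * t) = hc j s * hc j t := fun j s t => by
    refine smul_left_injective k (hw0 j) ?_
    show hc j (s * t) • w j = (hc j s * hc j t) • w j
    rw [← hwc, Subgroup.coe_mul, Groth.Agent.H1.Obs.act_mul, hwc j t, map_smul, hwc j s, smul_smul, mul_comm]
  have hcinv : ∀ (j : J) (t : Bc.Ts), hc j t⁻¹ * hc j t = 1 := fun j t => by
    rw [← hcmul, inv_mul_cancel]
    refine smul_left_injective k (hw0 j) ?_
    show hc j 1 • w j = (1 : k) • w j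
    rw [← hwc, OneMemClass.coe_one, Groth.Agent.H1.Obs.act_one, one_smul]
  have hc0 : ∀ (j : J) (t : Bc.Ts), hc j t ≠ 0 := fun j t h => by simpa [h] using hcinv j t
  have hmonc : ∀ (β : J → ℕ) (t : Bc.Ts), act ρ (t : P G) (mon β) = (∏ j, hc j t ^ β j) • mon β := fun β t => by
    let φ : A →* A :=
      { toFun := act ρ (t : P G), map_one' := act_one_elt ρ hρ _, map_mul' := act_mult ρ hρ _ }
    show φ (∏ j, w j ^ β j) = _
    rw [map_prod, ← Finset.prod_smul]
    exact Finset.prod_congr rfl fun j _ => by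
      rw [map_pow, show φ (w j) = hc j t • w j from hwc j t, smul_pow]
  -- the highest coefficient of a generator
  have hwF : ∀ j : J, (w j ∈ Fil Bc ρ (ht j)) ∧
      ∃ e : Γ(G.left, ⊤), ∀ g, pr Bc ρ (ht j) (act ρ g (w j)) = ev g e • w j := by
    intro j
    have hcellv : ∀ g, ev g Bc.h ≠ 0 → ∀ m, ht j ≤ m →
        pr Bc ρ m (act ρ g (w j)) = if m = ht j then pr Bc ρ (ht j) (act ρ g (w j)) else 0 := by
      intro g hg m hm
      split_ifs with h
      · rw [h]
      · obtain ⟨n', hn', t, ht', v, hv, rfl⟩ := Bc.cell g hg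
        rw [Groth.Agent.H1.Obs.act_mul, Groth.Agent.H1.Obs.act_mul, hwU j v hv, hwc j ⟨t, ht'⟩, map_smul, map_smul,
          (lower_pr Bc ρ hn' (hwn j)).1 m (by omega), smul_zero]
    have hcellt : ∀ g, ev g Bc.h ≠ 0 → pr Bc ρ (ht j) (act ρ g (w j)) ∈ Submodule.span k {w j} := by
      intro g hg
      obtain ⟨n', hn', t, ht', v, hv, rfl⟩ := Bc.cell g hg
      rw [Groth.Agent.H1.Obs.act_mul, Groth.Agent.H1.Obs.act_mul, hwU j v hv, hwc j ⟨t, ht'⟩, map_smul, map_smul,
        (lower_pr Bc ρ hn' (hwn j)).2]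
      exact Submodule.smul_mem _ _ (Submodule.mem_span_singleton_self _)
    have hzero : ∀ (m : ℤ) (l : A →ₗ[k] k), (∀ g, ev g Bc.h ≠ 0 → l (pr Bc ρ m (act ρ g (w j))) = 0) →
        ∀ g, l (pr Bc ρ m (act ρ g (w j))) = 0 := by
      intro m l hl g
      have h1 : coef ρ (l ∘ₗ pr Bc ρ m) (w j) * Bc.h = 0 := ext_points fun x => by
        rw [map_mul, map_zero, ev_coef]
        by_cases hx : ev x Bc.h = 0
        · rw [hx, mul_zero]
        · rw [LinearMap.comp_apply, hl x hx, zero_mul]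
      have h2 := congrArg (ev g) ((mul_eq_zero.mp h1).resolve_right Bc.h_ne)
      rwa [ev_coef, map_zero] at h2
    refine ⟨fun g m hm => (Module.forall_dual_apply_eq_zero_iff k _).mp fun l => hzero m l (fun g hg => ?_) g, ?_⟩
    · rw [hcellv g hg m hm.le, if_neg (by omega), map_zero]
    · have hin : ∀ g, pr Bc ρ (ht j) (act ρ g (w j)) ∈ Submodule.span k {w j} := fun g => by
        by_contra hn
        obtain ⟨l, hl, hlV⟩ := Submodule.exists_le_ker_of_notMem hn
        exact hl (hzero _ l (fun g hg => hlV (hcellt g hg)) g)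
      obtain ⟨l, hl⟩ : ∃ l : A →ₗ[k] k, l (w j) = 1 := by
        obtain ⟨l, hl⟩ : ∃ l : A →ₗ[k] k, l (w j) ≠ 0 := by
          by_contra h
          push Not at h
          exact hw0 j ((Module.forall_dual_apply_eq_zero_iff k _).mp h)
        exact ⟨(l (w j))⁻¹ • l, by rw [LinearMap.smul_apply, smul_eq_mul, inv_mul_cancel₀ hl]⟩
      refine ⟨coef ρ (l ∘ₗ pr Bc ρ (ht j)) (w j), fun g => ?_⟩
      obtain ⟨r, hr⟩ := Submodule.mem_span_singleton.mp (hin g)
      rw [ev_coef, LinearMap.comp_apply, ← hr, map_smul, hl, smul_eq_mul, _root_.mul_one]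
  choose hwFil e he using hwF
  have he1 : ∀ j, ev 1 (e j) = 1 := fun j => by
    refine smul_left_injective k (hw0 j) ?_
    show ev 1 (e j) • w j = (1 : k) • w j
    rw [← he, Groth.Agent.H1.Obs.act_one, pr_hom Bc ρ (hwn j), if_pos rfl, one_smul]
  let E : J → P G → Γ(G.left, ⊤) := fun j x => invF (rtr x (e j))
  have hE : ∀ j x g, ev g (E j x) • w j = pr Bc ρ (ht j) (act ρ g⁻¹ (act ρ x (w j))) := fun j x g => by
    rw [← Groth.Agent.H1.Obs.act_mul, he]
    show ev g (invF (rtr x (e j))) • w j = _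
    rw [ev_invF, ev_rtr]
  have hEpsi : ∀ j x, E j x ⊗ₜ[k] w j = psi ρ Bc (ht j) (act ρ x (w j)) := fun j x =>
    val_ext fun g => by rw [val_tmul, val_psi, hE]
  have hEt : ∀ j x g (t : Bc.Ts) (n' : P G), n' ∈ Bc.Ns →
      ev (g * ((t : P G) * n')) (E j x) = hc j t⁻¹ * ev g (E j x) := by
    intro j x g t n' hn'
    refine smul_left_injective k (hw0 j) ?_
    show ev (g * ((t : P G) * n')) (E j x) • w j = (hc j t⁻¹ * ev g (E j x)) • w j
    rw [hE, _root_.mul_inv_rev, _root_.mul_inv_rev, Groth.Agent.H1.Obs.act_mul, Groth.Agent.H1.Obs.act_mul,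
      top_lower Bc ρ (Fil_act Bc ρ (Fil_act Bc ρ (Fil_act Bc ρ (hwFil j) _) _) _) (Bc.Ns.inv_mem hn'),
      pr_act Bc ρ _ (Bc.Ts.inv_mem t.2), ← hE, map_smul, ← Subgroup.coe_inv, hwc, smul_smul, mul_comm]
  -- the algebra of translates of the generators
  let VR : Submodule k (Γ(G.left, ⊤) ⊗[k] A) := Submodule.span k (Set.range fun p : J × P G => E p.1 p.2 ⊗ₜ[k] w p.1)
  haveI hVR : FiniteDimensional k VR := by
    choose We hWefin hWe hWest using fun j : J => exists_stable ({e j} : Finset Γ(G.left, ⊤))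
    haveI := hWefin
    let Φ : J → Submodule k (Γ(G.left, ⊤) ⊗[k] A) := fun j =>
      (We j).map (((TensorProduct.mk k Γ(G.left, ⊤) A).flip (w j)) ∘ₗ (invF (G := G)).toLinearMap)
    have hle : VR ≤ ⨆ j, Φ j := Submodule.span_le.mpr fun z ⟨⟨j, x⟩, hz⟩ =>
      Submodule.mem_iSup_of_mem j ⟨rtr x (e j), hWest j x _ (hWe j (by simp)), hz⟩
    exact Submodule.finiteDimensional_of_le hle
  obtain ⟨SR, hSR⟩ := (Module.Finite.iff_fg).mp hVR
  set R := Algebra.adjoin k (SR : Set (Γ(G.left, ⊤) ⊗[k] A)) with hR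
  have hRE : ∀ j x, E j x ⊗ₜ[k] w j ∈ R := fun j x => by
    have h1 : E j x ⊗ₜ[k] w j ∈ Submodule.span k (SR : Set (Γ(G.left, ⊤) ⊗[k] A)) :=
      hSR ▸ Submodule.subset_span ⟨(j, x), rfl⟩
    exact Algebra.span_le_adjoin k _ h1
  haveI : Algebra.FiniteType k R := (Subalgebra.fg_iff_finiteType _).mp ⟨SR, rfl⟩
  haveI : IsNoetherianRing R := Algebra.FiniteType.isNoetherianRing k R
  -- semi-invariant generators of the functions invariant under the negative part
  obtain ⟨nw, χw, -, hsemi, -⟩ := exists_weights hB2 hU2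
  obtain ⟨Sq, hSq⟩ := fg_invAlg hB2 hU2
  have hSqi : ∀ f ∈ Sq, Inv (Bc.u2 ≫ Bc.iB2) f := fun f hf => by
    have : f ∈ invAlg (G := G) (Bc.u2 ≫ Bc.iB2) := hSq ▸ Algebra.subset_adjoin (Finset.mem_coe.mpr hf)
    exact this
  choose M₀ hM₀ hM₀' using fun f : Sq => Submodule.mem_span_finite_of_mem_span (hsemi f (hSqi f f.2))
  let Q₀ : Finset Γ(G.left, ⊤) := (Finset.univ.biUnion M₀).filter fun f => f ≠ 0
  let Q := {f // f ∈ Q₀}
  let q : Q → Γ(G.left, ⊤) := Subtype.val
  have hQ : ∀ i : Q, q i ≠ 0 ∧ Inv (Bc.u2 ≫ Bc.iB2) (q i) ∧ ∃ c, Semi Bc.iB2 c (q i) := fun i => by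
    obtain ⟨h1, h2⟩ := Finset.mem_filter.mp i.2
    obtain ⟨f, -, hf⟩ := Finset.mem_biUnion.mp h1
    exact ⟨h2, hM₀ f (Finset.mem_coe.mpr hf)⟩
  choose hq0 hqi cy hcy using hQ
  choose yt hyt using fun t : Bc.Ts => Bc.Ts_B2 t t.2
  let χq : Q → Bc.Ts → k := fun i t => cy i (yt t)
  have hqt : ∀ i g (t : Bc.Ts), ev (g * (t : P G)) (q i) = χq i t * ev g (q i) := fun i g t => by
    rw [← hyt t]; exact hcy i g (yt t)
  have hqn : ∀ i g, ∀ n' ∈ Bc.Ns, ev (g * n') (q i) = ev g (q i) := fun i g n' hn' => by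
    obtain ⟨z, rfl⟩ := (Bc.mem_Ns n').mp hn'
    exact hqi i g z
  have hqz : ∀ i, ∃ z : P G, ev z (q i) ≠ 0 := fun i => by
    by_contra h
    push Not at h
    exact hq0 i (ext_points fun x => by rw [h x, map_zero])
  choose zq hzq using hqz
  have hχ0 : ∀ i t, χq i t ≠ 0 := fun i t h => hq0 i (ext_points fun x => by
    have h1 := hqt i (x * (t : P G)⁻¹) t
    rw [inv_mul_cancel_right, h, zero_mul] at h1
    rw [h1, map_zero])
  let monq : (Q → ℕ) → Γ(G.left, ⊤) := fun α => ∏ i, q i ^ α i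
  have hFspan : ∀ f, Inv (Bc.u2 ≫ Bc.iB2) f → f ∈ Submodule.span k (Set.range monq) := fun f hf => by
    have h1 : f ∈ Algebra.adjoin k (Set.range q) := by
      have h0 : f ∈ invAlg (G := G) (Bc.u2 ≫ Bc.iB2) := hf
      rw [← hSq] at h0
      refine Algebra.adjoin_le (fun b hb => ?_) h0
      refine (Submodule.span_le (p := Subalgebra.toSubmodule (Algebra.adjoin k (Set.range q)))).mpr
        (fun x hx => ?_) (hM₀' ⟨b, hb⟩)
      by_cases hx0 : x = 0
      · rw [hx0]; exact Submodule.zero_mem _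
      · exact Algebra.subset_adjoin
          ⟨⟨x, Finset.mem_filter.mpr ⟨Finset.mem_biUnion.mpr ⟨⟨b, hb⟩, Finset.mem_univ _, hx⟩, hx0⟩⟩, rfl⟩
    rw [← Subalgebra.mem_toSubmodule, Algebra.adjoin_eq_span] at h1
    refine Submodule.span_le.mpr (fun x hx => Submodule.subset_span ?_) h1
    induction hx using Submonoid.closure_induction with
    | mem x hx =>
      obtain ⟨j, rfl⟩ := hx
      refine ⟨Pi.single j 1, ?_⟩
      show ∏ l, q l ^ (Pi.single j 1 : Q → ℕ) l = q j
      rw [Finset.prod_eq_single j (fun l _ hl => by rw [Pi.single_eq_of_ne hl, pow_zero])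
        (fun h => absurd (Finset.mem_univ _) h), Pi.single_eq_same, pow_one]
    | one => exact ⟨0, by simp [monq]⟩
    | mul x y _ _ hx hy =>
      obtain ⟨p, rfl⟩ := hx
      obtain ⟨r, rfl⟩ := hy
      exact ⟨p + r, by simp [monq, pow_add, Finset.prod_mul_distrib]⟩
  -- the monoid of matching weights
  let θ : Q ⊕ J → Bc.Ts → k := Sum.elim χq hc
  have hθ0 : ∀ i t, θ i t ≠ 0 := fun i t => by
    rcases i with i | j
    exacts [hχ0 i t, hc0 j t]
  let Pm : Set (Q ⊕ J → ℕ) := {p | ∀ t, ∏ i, θ i t ^ p i = 1}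
  let gn : Q ⊕ J → Γ(G.left, ⊤) ⊗[k] A := Sum.elim (fun i => q i ⊗ₜ[k] (1 : A)) (fun j => (1 : Γ(G.left, ⊤)) ⊗ₜ[k] w j)
  let tm : (Q ⊕ J → ℕ) → Γ(G.left, ⊤) ⊗[k] A := fun p => ∏ i, gn i ^ p i
  have hfin : {p | Minimal (fun p => p ∈ Pm ∧ p ≠ 0) p}.Finite :=
    WellQuasiOrderedLE.finite_of_isAntichain (setOfPred_minimal_antichain _)
  let Xs : Finset (Γ(G.left, ⊤) ⊗[k] A) := hfin.toFinset.image tm
  have htm : ∀ p ∈ Pm, tm p ∈ Algebra.adjoin R (Xs : Set (Γ(G.left, ⊤) ⊗[k] A)) := by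
    intro p
    induction' hN : ∑ i, p i using Nat.strong_induction_on with N ih generalizing p
    intro hp
    by_cases hp0 : p = 0
    · subst hp0
      simp only [tm, Pi.zero_apply, pow_zero, Finset.prod_const_one]
      exact Subalgebra.one_mem _
    obtain ⟨m, hmp, hm⟩ := exists_minimal_le_of_wellFoundedLT (fun p => p ∈ Pm ∧ p ≠ 0) p ⟨hp, hp0⟩
    have hsplit : p = (p - m) + m := funext fun i => (Nat.sub_add_cancel (hmp i)).symm
    have hpm : p - m ∈ Pm := fun t => by
      have h1 := hp t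
      rw [hsplit] at h1
      simp only [Pi.add_apply, pow_add, Finset.prod_mul_distrib, hm.1.1 t] at h1
      simpa using h1
    have hlt : ∑ i, (p - m) i < N := by
      obtain ⟨i₀, hi₀⟩ := Function.ne_iff.mp hm.1.2
      rw [← hN]
      refine Finset.sum_lt_sum (fun i _ => Nat.sub_le _ _) ⟨i₀, Finset.mem_univ _, ?_⟩
      have := hmp i₀
      show p i₀ - m i₀ < p i₀
      have hi : m i₀ ≠ 0 := hi₀
      have h4 : m i₀ ≤ p i₀ := hmp i₀
      omega
    have hprod : tm p = tm (p - m) * tm m := by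
      conv_lhs => rw [hsplit]
      simp only [tm, Pi.add_apply, pow_add, Finset.prod_mul_distrib]
    rw [hprod]
    exact Subalgebra.mul_mem _ (ih _ hlt (p - m) rfl hpm) (Algebra.subset_adjoin
      (Finset.mem_coe.mpr (Finset.mem_image_of_mem _ (hfin.mem_toFinset.mpr hm))))
  -- the top components lie in the algebra of matching weights
  have hpsiX : ∀ n v, v ∈ Fil Bc ρ n →
      psi ρ Bc n v ∈ Algebra.adjoin R (Xs : Set (Γ(G.left, ⊤) ⊗[k] A)) := by
    intro n v hv
    obtain ⟨𝓑, h𝓑, hsp, hli⟩ := exists_linearIndependent k (Set.range mon)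
    set Z := psi ρ Bc n v with hZ
    have hvalU : ∀ g, val g Z ∈ Submodule.span k 𝓑 := fun g => by
      rw [hsp, val_psi]
      exact hspan _ fun h hh => top_fixed Bc ρ (Fil_act Bc ρ hv _) hh
    obtain ⟨π, hπ⟩ := Submodule.exists_isCompl (Submodule.span k 𝓑)
    let pj : A →ₗ[k] A := (Submodule.span k 𝓑).subtype ∘ₗ Submodule.linearProjOfIsCompl _ _ hπ
    have hpj : ∀ a ∈ Submodule.span k 𝓑, pj a = a := fun a ha =>
      congrArg Subtype.val (Submodule.linearProjOfIsCompl_apply_left hπ ⟨a, ha⟩)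
    have hZ' : TensorProduct.map LinearMap.id pj Z = Z := val_ext fun g => by
      have key : ∀ z : Γ(G.left, ⊤) ⊗[k] A, val g (TensorProduct.map LinearMap.id pj z) = pj (val g z) := fun z => by
        induction z using TensorProduct.induction_on with
        | zero => simp
        | tmul f a => rw [TensorProduct.map_tmul, val_tmul, val_tmul, map_smul]; rfl
        | add p r hp hr => simp only [map_add, hp, hr]
      rw [key, hpj _ (hvalU g)]
    obtain ⟨F, hF⟩ : ∃ F : 𝓑 →₀ Γ(G.left, ⊤), Z = F.sum fun b f => f ⊗ₜ[k] (b : A) := by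
      rw [← hZ']
      clear_value Z
      clear hZ hZ' hvalU
      induction Z using TensorProduct.induction_on with
      | zero => exact ⟨0, by simp⟩
      | tmul f a =>
        obtain ⟨c, hc⟩ := (Finsupp.mem_span_range_iff_exists_finsupp (v := ((↑) : 𝓑 → A))).mp
          (show pj a ∈ Submodule.span k (Set.range ((↑) : 𝓑 → A)) by rw [Subtype.range_coe]; exact Subtype.coe_prop _)
        refine ⟨c.mapRange (fun r => r • f) (zero_smul _ _), ?_⟩
        rw [TensorProduct.map_tmul, LinearMap.id_apply, ← hc, Finsupp.sum_mapRange_index (h := fun (b : 𝓑) (f : Γ(G.left, ⊤)) => f ⊗ₜ[k] (b : A))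
            fun b => TensorProduct.zero_tmul _ _,
          Finsupp.sum, Finsupp.sum, TensorProduct.tmul_sum]
        exact Finset.sum_congr rfl fun b _ => by rw [TensorProduct.tmul_smul, TensorProduct.smul_tmul']
      | add z z' hz hz' =>
        obtain ⟨F, hF⟩ := hz
        obtain ⟨F', hF'⟩ := hz'
        refine ⟨F + F', ?_⟩
        rw [map_add, hF, hF', Finsupp.sum_add_index' (h := fun (b : 𝓑) (f : Γ(G.left, ⊤)) => f ⊗ₜ[k] (b : A))
          (fun b => TensorProduct.zero_tmul _ _)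
          fun b f f' => TensorProduct.add_tmul _ _ _]
    have hval : ∀ g, val g Z = ∑ b ∈ F.support, ev g (F b) • (b : A) := fun g => by
      rw [hF, Finsupp.sum, map_sum]
      exact Finset.sum_congr rfl fun b _ => val_tmul g _ _
    have hcoef : ∀ {a a' : 𝓑 → k}, ∑ b ∈ F.support, a b • (b : A) = ∑ b ∈ F.support, a' b • (b : A) →
        ∀ b ∈ F.support, a b = a' b := fun {a a'} h b hb => by
      rw [← sub_eq_zero, ← Finset.sum_sub_distrib] at h
      simp only [← sub_smul] at h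
      exact sub_eq_zero.mp (linearIndependent_iff'.mp hli F.support (fun b => a b - a' b) h b hb)
    rw [hF]
    refine Subalgebra.sum_mem _ fun b hb => ?_
    obtain ⟨β, hβ⟩ := h𝓑 b.2
    let cb : Bc.Ts → k := fun t => ∏ j, hc j t ^ β j
    have hmb : ∀ b' : 𝓑, ∀ t : Bc.Ts, ∃ r : k, act ρ (t : P G) (b' : A) = r • (b' : A) := fun b' t => by
      obtain ⟨β', hβ'⟩ := h𝓑 b'.2
      exact ⟨_, hβ' ▸ hmonc β' t⟩
    choose rb hrb using hmb
    have hbinv : ∀ g, ∀ n' ∈ Bc.Ns, ev (g * n') (F b) = ev g (F b) := fun g n' hn' => by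
      refine hcoef (a := fun b => ev (g * n') (F b)) (a' := fun b => ev g (F b)) ?_ b hb
      rw [← hval, ← hval, hZ, val_psi, val_psi, _root_.mul_inv_rev, Groth.Agent.H1.Obs.act_mul,
        top_lower Bc ρ (Fil_act Bc ρ hv _) (Bc.Ns.inv_mem hn')]
    have hbt : ∀ g (t : Bc.Ts), ev (g * (t : P G)) (F b) = cb t⁻¹ * ev g (F b) := fun g t => by
      have h1 := hcoef (a := fun b => ev (g * (t : P G)) (F b)) (a' := fun b => rb b t⁻¹ * ev g (F b)) (by
        have h2 : val (g * (t : P G)) Z = act ρ ((t⁻¹ : Bc.Ts) : P G) (val g Z) := by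
          rw [hZ, val_psi, val_psi, _root_.mul_inv_rev, Groth.Agent.H1.Obs.act_mul, Subgroup.coe_inv,
            pr_act Bc ρ _ (Bc.Ts.inv_mem t.2)]
        rw [← hval, h2, hval, map_sum]
        exact Finset.sum_congr rfl fun b _ => by rw [map_smul, hrb, smul_smul, mul_comm]) b hb
      have hb0 : (b : A) ≠ 0 := hli.ne_zero b
      have h3 : rb b t⁻¹ = cb t⁻¹ := smul_left_injective k hb0 (by
        show rb b t⁻¹ • (b : A) = cb t⁻¹ • (b : A)
        rw [← hrb, ← hβ]
        exact hmonc β _)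
      rw [h1, h3]
    have hFi : Inv (Bc.u2 ≫ Bc.iB2) (F b) := fun g z => hbinv g _ ((Bc.mem_Ns _).mpr ⟨z, rfl⟩)
    obtain ⟨c, hc'⟩ := Finsupp.mem_span_range_iff_exists_finsupp.mp (hFspan _ hFi)
    let χm : (Q → ℕ) → Bc.Ts → k := fun α t => ∏ i, χq i t ^ α i
    let W : Submodule k Γ(G.left, ⊤) :=
      { carrier := {f | ∀ g (t : Bc.Ts), ev (g * (t : P G)) f = cb t⁻¹ * ev g f}
        zero_mem' := fun g t => by rw [map_zero, map_zero, mul_zero]
        add_mem' := fun {f f'} hf hf' g t => by rw [map_add, map_add, hf, hf', mul_add]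
        smul_mem' := fun r f hf g t => by
          rw [Algebra.smul_def, map_mul, map_mul, hf, ev_const, ev_const]; ring }
    have hW : ∀ t : Bc.Ts, ∀ f ∈ W, (rtr (t : P G)).toLinearMap f ∈ W := fun t f hf g s => by
      show ev (g * (s : P G)) (rtr (t : P G) f) = cb s⁻¹ * ev g (rtr (t : P G) f)
      rw [ev_rtr, ev_rtr, _root_.mul_assoc, Bc.comm _ s.2 _ t.2, ← _root_.mul_assoc, hf]
    have heig : ∀ α (t : Bc.Ts), rtr (t : P G) (monq α) = χm α t • monq α := fun α t => ext_points fun g => by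
      rw [ev_rtr, Algebra.smul_def, map_mul, ev_const]
      simp only [monq, χm, map_prod, map_pow, ← Finset.prod_mul_distrib]
      exact Finset.prod_congr rfl fun i _ => by rw [hqt, mul_pow]
    let χ₀ : Bc.Ts → k := fun t => cb t⁻¹
    have hmatch : ∀ χ₁ : Bc.Ts → k, χ₁ ≠ χ₀ → ∑ α ∈ c.support.filter (fun α => χm α = χ₁), c α • monq α = 0 := by
      intro χ₁ hne
      have h1 := eigen_mem (fun t : Bc.Ts => (rtr (t : P G)).toLinearMap) W hW χm χ₁ c.support (fun α => c α • monq α)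
        (fun α _ t => by
          show (rtr (t : P G)).toLinearMap (c α • monq α) = _
          rw [map_smul, AlgHom.toLinearMap_apply, heig, smul_comm])
        (by
          have : ∑ α ∈ c.support, c α • monq α = F b := hc'
          rw [this]
          exact hbt)
      obtain ⟨t, ht'⟩ := Function.ne_iff.mp hne
      refine ext_points fun g => ?_
      have h2 := h1 g t
      rw [← ev_rtr, map_sum, Finset.sum_congr rfl fun α hα => by
        rw [map_smul, heig, (Finset.mem_filter.mp hα).2, smul_comm], ← Finset.smul_sum, Algebra.smul_def, map_mul,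
        ev_const] at h2
      rw [map_zero]
      exact (mul_eq_mul_right_iff.mp h2).resolve_left ht'
    have hFb : F b = ∑ α ∈ c.support.filter (fun α => χm α = χ₀), c α • monq α := by
      rw [show F b = ∑ α ∈ c.support, c α • monq α from hc'.symm,
        ← Finset.sum_fiberwise_of_maps_to (g := χm) (t := insert χ₀ (c.support.image χm))
          (fun α hα => Finset.mem_insert_of_mem (Finset.mem_image_of_mem _ hα))]
      exact Finset.sum_eq_single χ₀ (fun χ₁ _ hne => hmatch χ₁ hne) fun h => absurd (Finset.mem_insert_self _ _) h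
    show F b ⊗ₜ[k] (b : A) ∈ _
    rw [hFb, TensorProduct.sum_tmul]
    refine Subalgebra.sum_mem _ fun α hα => ?_
    rw [← TensorProduct.smul_tmul', ← hβ]
    have hp : Sum.elim α β ∈ Pm := fun t => by
      rw [Fintype.prod_sum_type]
      simp only [θ, Sum.elim_inl, Sum.elim_inr]
      have h1 : χm α t = cb t⁻¹ := congrFun (Finset.mem_filter.mp hα).2 t
      show χm α t * cb t = 1
      rw [h1]
      simp only [cb, ← Finset.prod_mul_distrib, ← mul_pow, hcinv, one_pow, Finset.prod_const_one]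
    have hprod : tm (Sum.elim α β) = monq α ⊗ₜ[k] mon β := by
      simp only [tm, Fintype.prod_sum_type, gn, Sum.elim_inl, Sum.elim_inr]
      have l1 : ∏ i, (q i ⊗ₜ[k] (1 : A)) ^ α i = (monq α) ⊗ₜ[k] (1 : A) :=
        ((map_prod (Algebra.TensorProduct.includeLeft : Γ(G.left, ⊤) →ₐ[k] Γ(G.left, ⊤) ⊗[k] A) _ _).trans
          (Finset.prod_congr rfl fun i _ => map_pow _ _ _)).symm
      have l2 : ∏ j, ((1 : Γ(G.left, ⊤)) ⊗ₜ[k] w j) ^ β j = (1 : Γ(G.left, ⊤)) ⊗ₜ[k] mon β :=
        ((map_prod (Algebra.TensorProduct.includeRight : A →ₐ[k] Γ(G.left, ⊤) ⊗[k] A) _ _).trans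
          (Finset.prod_congr rfl fun i _ => map_pow _ _ _)).symm
      rw [l1, l2, Algebra.TensorProduct.tmul_mul_tmul, _root_.mul_one, _root_.one_mul]
    have h9 := htm _ hp
    rw [hprod] at h9
    rw [Algebra.smul_def, IsScalarTower.algebraMap_apply k R (Γ(G.left, ⊤) ⊗[k] A)]
    exact Subalgebra.mul_mem _ (Subalgebra.algebraMap_mem _ _) h9
  -- integrality of the matching monomials
  have hint : ∀ p ∈ Pm, IsIntegral R (tm p) := by
    intro p hp
    by_contra hnot
    let Sv : Submonoid (Γ(G.left, ⊤) ⊗[k] A) :=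
      { carrier := {z | ∃ P : Polynomial R, P.Monic ∧ Polynomial.aeval (tm p) P = z}
        one_mem' := ⟨1, Polynomial.monic_one, map_one _⟩
        mul_mem' := by
          rintro _ _ ⟨P, hP, rfl⟩ ⟨P', hP', rfl⟩
          exact ⟨P * P', hP.mul hP', map_mul _ _ _⟩ }
    obtain ⟨Pr, hPp, -, hPd⟩ := Ideal.exists_le_prime_disjoint (I := ⊥) Sv (Set.disjoint_left.mpr fun z hz hS => by
      obtain ⟨P, hP, hPz⟩ := hS
      exact hnot ⟨P, hP, by rw [← Polynomial.aeval_def, hPz]; simpa using hz⟩)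
    haveI := hPp
    let K := FractionRing ((Γ(G.left, ⊤) ⊗[k] A) ⧸ Pr)
    let φ : Γ(G.left, ⊤) ⊗[k] A →ₐ[k] K :=
      (IsScalarTower.toAlgHom k ((Γ(G.left, ⊤) ⊗[k] A) ⧸ Pr) K).comp (Ideal.Quotient.mkₐ k Pr)
    have hφker : ∀ z, φ z = 0 → z ∈ Pr := fun z hz => by
      have h1 : algebraMap ((Γ(G.left, ⊤) ⊗[k] A) ⧸ Pr) K (Ideal.Quotient.mk Pr z) = 0 := hz
      rw [map_eq_zero_iff _ (IsFractionRing.injective _ K), Ideal.Quotient.eq_zero_iff_mem] at h1
      exact h1
    let R₀ : Subalgebra k K := R.map φ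
    have hnot' : φ (tm p) ∉ integralClosure R₀ K := fun hin => by
      obtain ⟨P₀, hP₀, hP₀z⟩ := hin
      let ψ : R →+* R₀ :=
        { toFun := fun r => ⟨φ r, r, r.2, rfl⟩
          map_one' := Subtype.ext (map_one φ)
          map_mul' := fun a b => Subtype.ext (map_mul φ _ _)
          map_zero' := Subtype.ext (map_zero φ)
          map_add' := fun a b => Subtype.ext (map_add φ _ _) }
      have hψ : Function.Surjective ψ := by
        rintro ⟨_, r, hr, rfl⟩
        exact ⟨⟨r, hr⟩, rfl⟩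
      obtain ⟨P₁, hP₁, -, hP₁m⟩ := Polynomial.lifts_and_degree_eq_and_monic
        (show P₀ ∈ Polynomial.lifts ψ from (Polynomial.mem_lifts _).mpr (Polynomial.map_surjective ψ hψ P₀)) hP₀
      refine Set.disjoint_left.mp hPd (hφker _ ?_) ⟨P₁, hP₁m, rfl⟩
      show φ.toRingHom (Polynomial.aeval (tm p) P₁) = 0
      rw [Polynomial.aeval_def, Polynomial.hom_eval₂, ← hP₀z, ← hP₁, Polynomial.eval₂_map]
      rfl
    haveI : IsIntegrallyClosedIn (integralClosure R₀ K).toSubring K :=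
      Subring.isIntegrallyClosedIn_iff.mpr fun {z} hz =>
        isIntegral_trans (R := R₀) (A := integralClosure R₀ K) z (hz : IsIntegral (integralClosure R₀ K) z)
    obtain ⟨O, hRO, hxO⟩ := Subring.exists_le_valuationSubring_of_isIntegrallyClosedIn
      (R := (integralClosure R₀ K).toSubring) hnot'
    have hRO' : ∀ r ∈ R, φ r ∈ O := fun r hr =>
      hRO (isIntegral_algebraMap (x := (⟨φ r, r, hr, rfl⟩ : R₀)))
    obtain ⟨K', _, _, κ, O', hO1, hO2, φ0, β, hφ0, hrel⟩ := exists_lift_valuation hB2 K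
      (φ.comp Algebra.TensorProduct.includeLeft) O fun r => by
        have := hRO' (algebraMap k _ r) (R.algebraMap_mem r)
        rwa [AlgHom.commutes] at this
    have hsemiK : ∀ (f : Γ(G.left, ⊤)) (cf : Γ(Bc.B2.left, ⊤)),
        (∀ g y, ev (g * (y ≫ Bc.iB2)) f = ev g f * ev y cf) → κ (φ (f ⊗ₜ[k] (1 : A))) = φ0 f * β cf :=
      fun f cf h => by
        have h1 := hrel f (n := 1) (fun _ => f) (fun _ => cf) (fun g y => by rw [Fin.sum_univ_one]; exact h g y)
        rwa [Fin.sum_univ_one] at h1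
    let cq : Q → Γ(Bc.B2.left, ⊤) := fun i => (ev (zq i) (q i))⁻¹ • Bc.iB2.left.appTop (ltr (zq i) (q i))
    have hcq : ∀ i y, ev y (cq i) = cy i y := fun i y => by
      show ev y ((ev (zq i) (q i))⁻¹ • Bc.iB2.left.appTop (ltr (zq i) (q i))) = _
      rw [Algebra.smul_def, map_mul, ev_const, ← ev_comp, ev_ltr, hcy, mul_comm (cy i y), ← _root_.mul_assoc,
        inv_mul_cancel₀ (hzq i), _root_.one_mul]
    let cw : J → Γ(Bc.B2.left, ⊤) := fun j => Bc.iB2.left.appTop (E j 1)
    have hcwy : ∀ j (g : P G) y (t : Bc.Ts) (n' : P G), n' ∈ Bc.Ns → y ≫ Bc.iB2 = (t : P G) * n' →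
        ∀ x, ev (g * (y ≫ Bc.iB2)) (E j x) = hc j t⁻¹ * ev g (E j x) ∧ ev y (cw j) = hc j t⁻¹ := by
      intro j g y t n' hn' hy x
      refine ⟨by rw [hy, hEt j x g t n' hn'], ?_⟩
      show ev y (Bc.iB2.left.appTop (E j 1)) = _
      rw [← ev_comp, hy, ← _root_.one_mul ((t : P G) * n'), hEt j 1 1 t n' hn']
      show _ * ev 1 (invF (rtr 1 (e j))) = _
      rw [ev_invF, ev_rtr, inv_one, _root_.one_mul, he1, _root_.mul_one]
    have hprodc : ∏ i, cq i ^ p (Sum.inl i) = ∏ j, cw j ^ p (Sum.inr j) := ext_points fun y => by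
      obtain ⟨t, ht', n', hn', hy⟩ := Bc.split_B2 y
      have hcyt : ∀ i, cy i y = χq i ⟨t, ht'⟩ := fun i => mul_right_cancel₀ (hzq i) (by
        rw [← hcy i (zq i) y, hy, ← _root_.mul_assoc, hqn i _ n' hn', hqt i _ ⟨t, ht'⟩])
      have h1 := hp ⟨t, ht'⟩
      rw [Fintype.prod_sum_type] at h1
      simp only [θ, Sum.elim_inl, Sum.elim_inr] at h1
      simp only [map_prod, map_pow, hcq, hcyt,
        fun j => (hcwy j 1 y ⟨t, ht'⟩ n' hn' hy 1).2]
      have h2 : (∏ j, hc j (⟨t, ht'⟩ : Bc.Ts)⁻¹ ^ p (Sum.inr j)) * ∏ j, hc j ⟨t, ht'⟩ ^ p (Sum.inr j) = 1 := by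
        simp only [← Finset.prod_mul_distrib, ← mul_pow, hcinv, one_pow, Finset.prod_const_one]
      exact mul_right_cancel₀ (right_ne_zero_of_mul_eq_one h2) (h1.trans h2.symm)
    let av : J → K' := fun j => β (cw j) * κ (φ ((1 : Γ(G.left, ⊤)) ⊗ₜ[k] w j))
    have hav : ∀ j, av j ∈ O' := fun j => by
      have hEO : ∀ x, φ0 (E j x) * av j ∈ O' := fun x => by
        have h1 := hO2 _ (hRO' _ (hRE j x))
        have h2 : E j x ⊗ₜ[k] w j = (E j x ⊗ₜ[k] (1 : A)) * ((1 : Γ(G.left, ⊤)) ⊗ₜ[k] w j) := by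
          rw [Algebra.TensorProduct.tmul_mul_tmul, _root_.mul_one, _root_.one_mul]
        rw [h2, map_mul, map_mul, hsemiK (E j x) (cw j) fun g y => by
          obtain ⟨t, ht', n', hn', hy⟩ := Bc.split_B2 y
          obtain ⟨ha, hb⟩ := hcwy j g y ⟨t, ht'⟩ n' hn' hy x
          rw [ha, hb, mul_comm], _root_.mul_assoc] at h1
        exact h1
      by_contra hcon
      let φO : Γ(G.left, ⊤) →+* O' := φ0.toRingHom.codRestrict O'.toSubring hφ0
      let I : Ideal Γ(G.left, ⊤) := (IsLocalRing.maximalIdeal O').comap φO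
      have hI : ∀ x, E j x ∈ I := fun x => by
        show φO (E j x) ∈ IsLocalRing.maximalIdeal O'
        rw [IsLocalRing.mem_maximalIdeal, mem_nonunits_iff]
        intro hu
        obtain ⟨v, hv⟩ := hu.exists_left_inv
        refine hcon ?_
        have h1 : (v : K') * φ0 (E j x) = 1 := congrArg Subtype.val hv
        have h2 := O'.mul_mem _ _ v.2 (hEO x)
        rwa [← _root_.mul_assoc, h1, _root_.one_mul] at h2
      obtain ⟨m, hm, hIm⟩ := Ideal.exists_le_maximal I (Ideal.IsPrime.ne_top inferInstance)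
      haveI := hm
      obtain ⟨g₀, hg₀⟩ := exists_ev_ker' m
      have h1 : E j g₀ ∈ RingHom.ker (ev g₀) := hg₀ ▸ hIm (hI g₀)
      rw [RingHom.mem_ker] at h1
      show False
      have h2 : ev g₀ (E j g₀) = 1 := by
        show ev g₀ (invF (rtr g₀ (e j))) = 1
        rw [ev_invF, ev_rtr, inv_mul_cancel, he1]
      exact one_ne_zero (h2.symm.trans h1)
    refine hxO (hO1 _ ?_)
    have hval : κ (φ (tm p)) = (∏ i, φ0 (q i) ^ p (Sum.inl i)) * ∏ j, av j ^ p (Sum.inr j) := by
      simp only [tm, Fintype.prod_sum_type, gn, Sum.elim_inl, Sum.elim_inr, map_mul, map_prod, map_pow]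
      have hq1 : ∀ i, κ (φ (q i ⊗ₜ[k] (1 : A))) = φ0 (q i) * β (cq i) := fun i =>
        hsemiK _ _ fun g y => by rw [hcy, hcq, mul_comm]
      simp only [hq1, av, mul_pow, Finset.prod_mul_distrib]
      have h3 : ∏ i, β (cq i) ^ p (Sum.inl i) = ∏ j, β (cw j) ^ p (Sum.inr j) := by
        simp only [← map_pow, ← map_prod]
        rw [hprodc]
      rw [h3]
      ring
    rw [hval]
    exact O'.mul_mem _ _ (prod_mem fun i _ => pow_mem (hφ0 _) _) (prod_mem fun j _ => pow_mem (hav j) _)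
  have hXfin : (Subalgebra.toSubmodule (Algebra.adjoin R (Xs : Set (Γ(G.left, ⊤) ⊗[k] A)))).FG :=
    fg_adjoin_of_finite Xs.finite_toSet fun z hz => by
      obtain ⟨p, hp, rfl⟩ := Finset.mem_image.mp (Finset.mem_coe.mp hz)
      exact hint p (hfin.mem_toFinset.mp hp).1.1
  -- finitely many top components generate all of them
  let Ts' : Set (Γ(G.left, ⊤) ⊗[k] A) := {z | ∃ n v, v ∈ Fil Bc ρ n ∧ psi ρ Bc n v = z}
  have hLle : Submodule.span R Ts' ≤ Subalgebra.toSubmodule (Algebra.adjoin R (Xs : Set (Γ(G.left, ⊤) ⊗[k] A))) :=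
    Submodule.span_le.mpr fun z ⟨n, v, hv, hz⟩ => hz ▸ hpsiX n v hv
  haveI := isNoetherian_of_fg_of_noetherian _ hXfin
  obtain ⟨SL, hSL⟩ : (Submodule.span R Ts').FG := isNoetherian_submodule.mp inferInstance _ hLle
  choose SM hSM hSM' using fun z : SL => Submodule.mem_span_finite_of_mem_span
    (show (z : Γ(G.left, ⊤) ⊗[k] A) ∈ Submodule.span R Ts' from hSL ▸ Submodule.subset_span z.2)
  let Z₀ := Finset.univ.biUnion SM
  have hZ₀ : ∀ z : Z₀, ∃ n v, v ∈ Fil Bc ρ n ∧ psi ρ Bc n v = (z : Γ(G.left, ⊤) ⊗[k] A) := fun z => by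
    obtain ⟨a, -, ha⟩ := Finset.mem_biUnion.mp z.2
    exact hSM a (Finset.mem_coe.mpr ha)
  choose nz vz hvz hpz using hZ₀
  choose Vz hVfin hVmem hVst using fun z : Z₀ => exists_finite_stable ρ (vz z)
  choose sz hsz using fun z : Z₀ => (Module.Finite.iff_fg).mp (hVfin z)
  let s₀ : Finset A := insert 1 (Finset.univ.biUnion sz)
  let M₀ : Submodule C A := Submodule.span C (s₀ : Set A)
  have hMk : ∀ (r : k), ∀ m ∈ M₀, r • m ∈ M₀ := fun r m hm => by
    rw [← algebraMap_smul C r m]; exact M₀.smul_mem _ hm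
  have hCM : ∀ c ∈ C, c ∈ M₀ := fun c hc' => by
    have h1 := M₀.smul_mem ⟨c, hc'⟩ (Submodule.subset_span (Finset.mem_coe.mpr (Finset.mem_insert_self 1 _)))
    rwa [Subalgebra.smul_def, smul_eq_mul, _root_.mul_one] at h1
  have hVM : ∀ z, ∀ v ∈ Vz z, v ∈ M₀ := fun z v hv => by
    rw [← hsz z] at hv
    induction hv using Submodule.span_induction with
    | mem x hx =>
      exact Submodule.subset_span (Finset.mem_coe.mpr (Finset.mem_insert_of_mem
        (Finset.mem_biUnion.mpr ⟨z, Finset.mem_univ _, hx⟩)))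
    | zero => exact M₀.zero_mem
    | add x y _ _ hx hy => exact M₀.add_mem hx hy
    | smul r x _ hx => exact hMk r x hx
  have hMst : ∀ (x : P G), ∀ m ∈ M₀, act ρ x m ∈ M₀ := fun x m hm => by
    induction hm using Submodule.span_induction with
    | mem y hy =>
      rcases Finset.mem_insert.mp (Finset.mem_coe.mp hy) with rfl | hy
      · rw [act_one_elt ρ hρ]; exact hCM _ C.one_mem
      · obtain ⟨z, -, hyz⟩ := Finset.mem_biUnion.mp hy
        exact hVM z _ (hVst z x y (by rw [← hsz z]; exact Submodule.subset_span hyz))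
    | zero => rw [map_zero]; exact M₀.zero_mem
    | add p r _ _ hp hr => rw [map_add]; exact M₀.add_mem hp hr
    | smul r p _ hp =>
      rw [Subalgebra.smul_def, smul_eq_mul, act_mult ρ hρ]
      exact M₀.smul_mem ⟨_, hC x r r.2⟩ hp
  let Kc : Submodule k (Γ(G.left, ⊤) ⊗[k] A) :=
    Submodule.span k {z | ∃ m c, c ∈ C ∧ c ∈ Fil Bc ρ m ∧ psi ρ Bc m c = z}
  let Km : Submodule k (Γ(G.left, ⊤) ⊗[k] A) :=
    Submodule.span k {z | ∃ m c, c ∈ M₀ ∧ c ∈ Fil Bc ρ m ∧ psi ρ Bc m c = z}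
  have hpmul : ∀ {m n a b}, a ∈ Fil Bc ρ m → b ∈ Fil Bc ρ n →
      psi ρ Bc (m + n) (a * b) = psi ρ Bc m a * psi ρ Bc n b := fun {m n a b} ha hb => val_ext fun g => by
    rw [map_mul, val_psi, val_psi, val_psi, act_mult ρ hρ,
      (Fil_mul Bc ρ hρ (Fil_act Bc ρ ha _) (Fil_act Bc ρ hb _)).2]
  have h1F : (1 : A) ∈ Fil Bc ρ 0 := fun g m hm => by
    rw [act_one_elt ρ hρ, pr_hom Bc ρ (hom_one Bc ρ hρ), if_neg (by omega)]
  have hRK : ∀ r ∈ R, r ∈ Kc := by
    have hle : Algebra.adjoin k (Set.range fun p : J × P G => E p.1 p.2 ⊗ₜ[k] w p.1) ≤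
        Kc.toSubalgebra (Submodule.subset_span ⟨0, 1, C.one_mem, h1F, val_ext fun g => by
          rw [val_psi, act_one_elt ρ hρ, pr_hom Bc ρ (hom_one Bc ρ hρ), if_pos rfl, map_one]⟩)
        (fun a b ha hb => by
          induction ha using Submodule.span_induction with
          | zero => rw [zero_mul]; exact Kc.zero_mem
          | add p r _ _ hp hr => rw [add_mul]; exact Kc.add_mem hp hr
          | smul r p _ hp => rw [smul_mul_assoc]; exact Kc.smul_mem r hp
          | mem p hp =>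
            induction hb using Submodule.span_induction with
            | zero => rw [mul_zero]; exact Kc.zero_mem
            | add x r _ _ hx hr => rw [mul_add]; exact Kc.add_mem hx hr
            | smul r x _ hx => rw [mul_smul_comm]; exact Kc.smul_mem r hx
            | mem x hx =>
              obtain ⟨m, c, hc1, hc2, rfl⟩ := hp
              obtain ⟨m', c', hc1', hc2', rfl⟩ := hx
              exact Submodule.subset_span
                ⟨m + m', c * c', C.mul_mem hc1 hc1', (Fil_mul Bc ρ hρ hc2 hc2').1, hpmul hc2 hc2'⟩) := by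
      refine Algebra.adjoin_le ?_
      rintro _ ⟨⟨j, x⟩, rfl⟩
      refine Submodule.subset_span ⟨ht j, act ρ x (w j), hC x _ ?_, Fil_act Bc ρ (hwFil j) x, (hEpsi j x).symm⟩
      exact Algebra.adjoin_le hSC (hgen _ (hwU j))
    intro r hr
    refine hle (Algebra.adjoin_le (fun z hz => ?_) hr)
    have : z ∈ VR := hSR ▸ Submodule.subset_span hz
    exact Algebra.span_le_adjoin k _ this
  have hK : ∀ n v, v ∈ Fil Bc ρ n → psi ρ Bc n v ∈ Km := by
    intro n v hv
    have h1 : psi ρ Bc n v ∈ Submodule.span R (Set.range fun z : Z₀ => psi ρ Bc (nz z) (vz z)) := by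
      refine Submodule.span_le.mpr (fun z hz => ?_) (hSL.symm ▸ Submodule.subset_span ⟨n, v, hv, rfl⟩ :
        psi ρ Bc n v ∈ Submodule.span R (SL : Set (Γ(G.left, ⊤) ⊗[k] A)))
      refine Submodule.span_mono (fun y hy => ?_) (hSM' ⟨z, hz⟩)
      exact ⟨⟨y, Finset.mem_biUnion.mpr ⟨⟨z, hz⟩, Finset.mem_univ _, hy⟩⟩, hpz _⟩
    clear hv
    generalize psi ρ Bc n v = y₀ at h1 ⊢
    induction h1 using Submodule.span_induction with
    | mem y hy =>
      obtain ⟨z, rfl⟩ := hy
      exact Submodule.subset_span ⟨nz z, vz z, hVM z _ (hVmem z), hvz z, rfl⟩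
    | zero => exact Km.zero_mem
    | add x y _ _ hx hy => exact Km.add_mem hx hy
    | smul r x _ hx =>
      rw [Subalgebra.smul_def, smul_eq_mul]
      have hr' : ∀ r'' ∈ Kc, ∀ x ∈ Km, r'' * x ∈ Km := fun r'' hr'' x hx => by
        induction hr'' using Submodule.span_induction with
        | zero => rw [zero_mul]; exact Km.zero_mem
        | add a b _ _ ha hb => rw [add_mul]; exact Km.add_mem ha hb
        | smul a b _ hb => rw [smul_mul_assoc]; exact Km.smul_mem a hb
        | mem a ha =>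
          induction hx using Submodule.span_induction with
          | zero => rw [mul_zero]; exact Km.zero_mem
          | add p s _ _ hp hs => rw [mul_add]; exact Km.add_mem hp hs
          | smul s p _ hp => rw [mul_smul_comm]; exact Km.smul_mem s hp
          | mem p hp =>
            obtain ⟨m, c, hc1, hc2, rfl⟩ := ha
            obtain ⟨m', c', hc1', hc2', rfl⟩ := hp
            refine Submodule.subset_span ⟨m + m', c * c', ?_, (Fil_mul Bc ρ hρ hc2 hc2').1, hpmul hc2 hc2'⟩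
            exact M₀.smul_mem ⟨c, hc1⟩ hc1'
      exact hr' _ (hRK _ r.2) _ hx
  -- descent along the filtration
  have hstep : ∀ n v, v ∈ Fil Bc ρ n → ∃ c ∈ M₀, c ∈ Fil Bc ρ n ∧ v - c ∈ Fil Bc ρ (n - 1) := by
    intro n v hv
    have hgood : ∀ z ∈ Km, ∃ c ∈ M₀, c ∈ Fil Bc ρ n ∧ ∀ g, pr Bc ρ n (val g z) = pr Bc ρ n (act ρ g⁻¹ c) := by
      intro z hz
      induction hz using Submodule.span_induction with
      | zero => exact ⟨0, M₀.zero_mem, Submodule.zero_mem _, fun g => by simp⟩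
      | add a b _ _ ha hb =>
        obtain ⟨c, hc1, hc2, hc3⟩ := ha
        obtain ⟨c', hc1', hc2', hc3'⟩ := hb
        exact ⟨c + c', M₀.add_mem hc1 hc1', Submodule.add_mem _ hc2 hc2', fun g => by
          simp only [map_add, hc3 g, hc3' g]⟩
      | smul r a _ ha =>
        obtain ⟨c, hc1, hc2, hc3⟩ := ha
        exact ⟨r • c, hMk r c hc1, Submodule.smul_mem _ r hc2, fun g => by simp only [map_smul, hc3 g]⟩
      | mem a ha =>
        obtain ⟨m, c, hc1, hc2, rfl⟩ := ha
        by_cases hmn : m = n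
        · subst hmn
          exact ⟨c, hc1, hc2, fun g => by rw [val_psi, pr_pr, if_pos rfl]⟩
        · exact ⟨0, M₀.zero_mem, Submodule.zero_mem _, fun g => by
            rw [val_psi, pr_pr, if_neg (Ne.symm hmn), map_zero, map_zero]⟩
    obtain ⟨c, hc1, hc2, hc3⟩ := hgood _ (hK n v hv)
    refine ⟨c, hc1, hc2, fun g m hm => ?_⟩
    rw [map_sub, map_sub]
    by_cases hmn : m = n
    · subst hmn
      have h1 := hc3 g⁻¹
      rw [val_psi, _root_.inv_inv, pr_pr, if_pos rfl] at h1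
      rw [h1, sub_self]
    · rw [hv g m (by omega), hc2 g m (by omega), sub_zero]
  refine ⟨s₀, fun a => ?_⟩
  obtain ⟨N, hN⟩ := exists_Fil Bc ρ a
  obtain ⟨T₀, hT₀, -⟩ := exists_support Bc ρ a
  have hdesc : ∀ d : ℕ, ∃ c ∈ M₀, a - c ∈ Fil Bc ρ (N - d) := fun d => by
    induction d with
    | zero => exact ⟨0, M₀.zero_mem, by simpa using hN⟩
    | succ d ih =>
      obtain ⟨c, hc1, hc2⟩ := ih
      obtain ⟨c', hc1', -, hc3'⟩ := hstep _ _ hc2
      refine ⟨c + c', M₀.add_mem hc1 hc1', ?_⟩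
      rw [Nat.cast_succ, ← sub_sub, ← sub_sub a]
      exact hc3'
  obtain ⟨b, hb⟩ := T₀.bddBelow
  obtain ⟨c, hc1, hc2⟩ := hdesc (N - b + 1).toNat
  rw [← sum_pr Bc ρ a hT₀]
  refine Submodule.sum_mem _ fun m hm => ?_
  let Mk : Submodule k A :=
    { carrier := M₀, zero_mem' := M₀.zero_mem, add_mem' := M₀.add_mem, smul_mem' := hMk }
  have h1 := hc2 1 m (by have := hb (Finset.mem_coe.mpr hm); omega)
  rw [Groth.Agent.H1.Obs.act_one, map_sub, sub_eq_zero] at h1
  rw [h1]
  exact pr_mem Bc ρ Mk (fun x w hw => hMst _ w hw) hc1 m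

end Groth.Agent.Lib.H1.Grosshans
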