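import Groth.Agent.Lib.H1.Grosshans.Triangle

/-!
# The big cell and the pair of opposite Borel subgroups of a group without unipotent radical, on points
-/

universe u w

namespace Groth.Agent.Lib.H1.Grosshans

set_option linter.style.haveILetI false
set_option linter.unusedSectionVars false

open LaurentPolynomial TensorProduct WithConv Module CategoryTheory AlgebraicGeometry
open Groth.Agent.H1.Classical Groth.Agent.H1.Classical.Torus Groth.Agent.H1.Classical.Torus.Centraliser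
open Groth.Agent.H1.Classical.Torus.MaxTorus Groth.Agent.H1.Classical.Complete
open Groth.Agent.Lib.Dyn85 Groth.Agent.Lib.Dyn85.GmAct
open Groth.Agent.H1.Obs.UFG

variable {k : Type u} [Field k] [IsAlgClosed k] {A : Type u} [CommRing A] [HopfAlgebra k A] [Algebra.FiniteType k A]
  [IsDomain A] [Algebra.Smooth k A] {W : Type u} [AddCommGroup W] [Module k W] [FiniteDimensional k W]
  {σ : Representation k (HopfPts.Pt k A) W}

theorem conj_comm {G : Type*} [Group G] {t μ : G} (h : Commute t μ) (g : G) :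
    μ * (t * g * t⁻¹) * μ⁻¹ = t * (μ * g * μ⁻¹) * t⁻¹ := by
  have h1 : t * μ = μ * t := h
  calc μ * (t * g * t⁻¹) * μ⁻¹ = (μ * t) * g * (μ * t)⁻¹ := by group
    _ = (t * μ) * g * (t * μ)⁻¹ := by rw [h1]
    _ = t * (μ * g * μ⁻¹) * t⁻¹ := by group

/-- A subgroup of points defined by an action, as a subgroup of the group of points. -/
def ptsSub (H : Subgroup (Lib.Dyn85.Pt k A k)) : Subgroup (HopfPts.Pt k A) where
  carrier := {g | g ∈ H}
  one_mem' := H.one_mem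
  mul_mem' := H.mul_mem
  inv_mem' := fun {g} hg => by
    obtain ⟨q, hq, hqg⟩ : ∃ q ∈ H, q * g = 1 := ⟨_, H.inv_mem hg, inv_mul_cancel _⟩
    have : g⁻¹ = q := inv_eq_of_mul_eq_one_left hqg
    rw [Set.mem_setOf_eq, this]; exact hq

theorem mem_ptsSub {H : Subgroup (Lib.Dyn85.Pt k A k)} {g : HopfPts.Pt k A} : g ∈ ptsSub H ↔ g ∈ H := Iff.rfl

theorem mem_centralizer_of_Z {lam : A →ₐc[k] k[T;T⁻¹]} (g : HopfPts.Pt k A)
    (hg : ∀ n : ℤ, n ≠ 0 → ∀ f, g.ofConv ((ofLam lam).π n f) = 0) (x : kˣ) :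
    lamPt (R := k) lam x * g = g * lamPt (R := k) lam x := by
  have h1 : Dyn85.conj lam x g = g := pt_ext fun f => by
    show (Dyn85.conj lam x g).ofConv f = g.ofConv f
    rw [eval_pt]
    have h2 : (ofLam lam).pt k g f = AddMonoidAlgebra.single 0 (g.ofConv ((ofLam lam).π 0 f)) :=
      LaurentPolynomial.ext fun n => by
        rw [GmAct.coeff_pt, AddMonoidAlgebra.coeff_single, Finsupp.single_apply]
        by_cases hn : (0 : ℤ) = n
        · subst hn; rw [if_pos rfl]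
        · rw [if_neg hn]; exact hg n (Ne.symm hn) f
    rw [h2, evR_single, AlgHom.id_apply, zpow_zero, Units.val_one, _root_.mul_one]
    classical
    have h3 := (ofLam lam).eq_sum_π (a := f) (s := insert 0 ((ofLam lam).orb f).coeff.support) (Finset.subset_insert _ _)
    conv_rhs => rw [← h3, map_sum]
    rw [Finset.sum_eq_single (0 : ℤ) (fun n _ hn => hg n hn f) (fun h => absurd (Finset.mem_insert_self _ _) h)]
  calc lamPt (R := k) lam x * g = Dyn85.conj lam x g * lamPt (R := k) lam x :=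
        (inv_mul_cancel_right (lamPt (R := k) lam x * g) (lamPt (R := k) lam x)).symm
    _ = g * lamPt (R := k) lam x := by rw [h1]

theorem neg_Z {lam : A →ₐc[k] k[T;T⁻¹]} {D' : GmAct k A} (hD' : D' = ofLam lam ∨ D' = (ofLam lam).neg)
    (z : Lib.Dyn85.Pt k A k) (hz : z ∈ D'.Z k) (n : ℤ) (hn : n ≠ 0) (f : A) : z ((ofLam lam).π n f) = 0 := by
  rcases hD' with rfl | rfl
  · exact (GmAct.mem_Z_iff _).mp hz n hn f
  · have := (GmAct.mem_Z_iff _).mp hz (-n) (neg_ne_zero.mpr hn) f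
    rwa [GmAct.neg_π, neg_neg] at this

/-- The non-negative part is the centraliser times the positive part, is solvable and irreducible. -/
theorem part_props {lam : A →ₐc[k] k[T;T⁻¹]} {D' : GmAct k A} (hD' : D' = ofLam lam ∨ D' = (ofLam lam).neg)
    {T : Subgroup (HopfPts.Pt k A)} (hTs : Group.IsSolvable (Subgroup.centralizer (T : Set (HopfPts.Pt k A))))
    (hirrC : (HopfPts.D k A).SIrr (Subgroup.centralizer (T : Set (HopfPts.Pt k A))))
    (hcent : ∀ g : HopfPts.Pt k A, (∀ x : kˣ, lamPt (R := k) lam x * g = g * lamPt (R := k) lam x) →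
      g ∈ Subgroup.centralizer (T : Set (HopfPts.Pt k A)))
    (hmem : ∀ x : kˣ, lamPt (R := k) lam x ∈ T)
    (hUs : Group.IsSolvable (ptsSub (D'.U k))) :
    Group.IsSolvable (ptsSub (D'.P k)) ∧ (HopfPts.D k A).IsCl (ptsSub (D'.P k)) ∧
      (HopfPts.D k A).IsCl (ptsSub (D'.U k)) ∧ (HopfPts.D k A).SIrr (ptsSub (D'.P k)) ∧
      (∀ t ∈ Subgroup.centralizer (T : Set (HopfPts.Pt k A)), t ∈ ptsSub (D'.P k)) ∧
      (∀ p ∈ ptsSub (D'.P k), ∃ z ∈ Subgroup.centralizer (T : Set (HopfPts.Pt k A)), ∃ u ∈ ptsSub (D'.U k),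
        p = z * u) := by
  classical
  set Γ := HopfPts.Pt k A
  have hlim : ∀ g : ptsSub (D'.P k), ∃ z : Γ, z ∈ Subgroup.centralizer (T : Set Γ) ∧
      (∀ b, z.ofConv b = (g : Γ).ofConv (D'.π 0 b)) ∧ ∃ u ∈ ptsSub (D'.U k), (g : Γ) = z * u := fun g => by
    obtain ⟨z, hzZ, hz, hu⟩ := GmAct.exists_limit D' g.2
    exact ⟨z, hcent _ (mem_centralizer_of_Z z fun n hn f => neg_Z hD' z hzZ n hn f), hz, _, hu,
      (mul_inv_cancel_left z _).symm⟩
  have hsplit : ∀ p ∈ ptsSub (D'.P k), ∃ z ∈ Subgroup.centralizer (T : Set Γ), ∃ u ∈ ptsSub (D'.U k), p = z * u :=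
    fun p hp => by
      obtain ⟨z, hz, -, u, hu, h⟩ := hlim ⟨p, hp⟩
      exact ⟨z, hz, u, hu, h⟩
  have hCP : ∀ t ∈ Subgroup.centralizer (T : Set Γ), t ∈ ptsSub (D'.P k) := fun t ht => by
    have hpt : ∀ n : ℤ, n ≠ 0 → ∀ f, t.ofConv ((ofLam lam).π n f) = 0 := fun n hn f => by
      have hh : (ofLam lam).pt k t f = AddMonoidAlgebra.single 0 (t.ofConv f) := laurent_ext fun x => by
        rw [evR_single, AlgHom.id_apply, zpow_zero, Units.val_one, _root_.mul_one, ← eval_pt]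
        have : Dyn85.conj lam x t = t :=
          mul_inv_eq_iff_eq_mul.mpr (Subgroup.mem_centralizer_iff.mp ht _ (hmem x))
        rw [this]
      rw [← GmAct.coeff_pt, hh, AddMonoidAlgebra.coeff_single, Finsupp.single_eq_of_ne hn]
    refine (GmAct.mem_P_iff _).mpr fun n hn f => ?_
    rcases hD' with rfl | rfl
    · exact hpt n (by omega) f
    · rw [GmAct.neg_π]; exact hpt (-n) (by omega) f
  choose z hzc hz u hu hgu using hlim
  have hsolv : Group.IsSolvable (ptsSub (D'.P k)) := by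
    haveI := hUs
    haveI := hTs
    let θ : ptsSub (D'.P k) →* Subgroup.centralizer (T : Set Γ) :=
      MonoidHom.mk' (fun g => ⟨z g, hzc g⟩) fun g g' => by
        refine Subtype.ext ?_
        obtain ⟨h₁, hh₁⟩ : ∃ h, post (toL (k := k) (R := k)) h = D'.pt k (g : Γ) := g.2
        obtain ⟨h₂, hh₂⟩ : ∃ h, post (toL (k := k) (R := k)) h = D'.pt k (g' : Γ) := g'.2
        have hh : post (toL (k := k) (R := k)) (h₁ * h₂) = D'.pt k ((g : Γ) * (g' : Γ)) := by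
          rw [map_mul, map_mul, hh₁, hh₂]
        have hlim : ∀ (g : ptsSub (D'.P k)) (h : Lib.Dyn85.Pt k A (Polynomial k)),
            post (toL (k := k) (R := k)) h = D'.pt k (g : Γ) → z g = post (ev0 (k := k) (R := k)) h :=
          fun g h hh => pt_ext fun b => (hz g b).trans (GmAct.ev0_lift D' hh b).symm
        show z (g * g') = z g * z g'
        rw [hlim g h₁ hh₁, hlim g' h₂ hh₂, hlim (g * g') _ hh, map_mul]
    refine Group.isSolvable_of_ker_le_range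
      (Subgroup.inclusion (fun g hg => GmAct.U_le_P D' hg : ptsSub (D'.U k) ≤ ptsSub (D'.P k))) θ fun g hg => ?_
    refine ⟨⟨g, ?_⟩, Subtype.ext rfl⟩
    have h1 : z g = 1 := congrArg Subtype.val (MonoidHom.mem_ker.mp hg)
    rw [hgu g, h1, _root_.one_mul]
    exact hu g
  have hcl : ∀ (J : Ideal A) (H : Subgroup Γ), (∀ g : Γ, (∀ b ∈ J, g.ofConv b = 0) ↔ g ∈ H) →
      (HopfPts.D k A).IsCl H := fun J H hrep =>
    Alg.isCl_of_forall _ ((HopfPts.ev k A) '' (J : Set A)) (by rintro _ ⟨b, -, rfl⟩; exact ⟨b, rfl⟩) fun g =>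
      ⟨fun hg => by rintro _ ⟨b, hb, rfl⟩; exact (hrep g).mpr hg b hb, fun h => (hrep g).mp fun b hb => h _ ⟨b, hb, rfl⟩⟩
  have hPcl := hcl D'.JP (ptsSub (D'.P k)) fun g => D'.rep_P k g
  have hUcl := hcl D'.JU (ptsSub (D'.U k)) fun g => D'.rep_U k g
  obtain ⟨C₀, hC₀le, -, hC₀irr, hC₀max, -⟩ := RadImage.exists_component_le (D := HopfPts.D k A) _ hPcl
  have hall : ∀ p ∈ ptsSub (D'.P k), p ∈ C₀ := fun p hp => by
    obtain ⟨w, hw, v, hv, rfl⟩ := hsplit p hp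
    refine C₀.mul_mem (hC₀max _ hirrC (Subgroup.one_mem _) hCP hw) ?_
    have h0 : ∀ f, v.ofConv ((ofLam lam).π 0 f) = Coalgebra.counit (R := k) f := fun f => by
      have h := ((GmAct.mem_U_iff _).mp hv).2 f
      rcases hD' with rfl | rfl
      · simpa using h
      · simpa [GmAct.neg_π] using h
    have := hC₀max _ (sirr_curve lam v h0) (Or.inl rfl) (by
      rintro _ (rfl | ⟨x, rfl⟩)
      · exact Subgroup.one_mem _
      · have hx : lamPt (R := k) lam x ∈ ptsSub (D'.P k) := hCP _ (Subgroup.mem_centralizer_iff.mpr fun t ht =>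
          Subgroup.mem_centralizer_iff.mp (hcent _ fun y => by rw [← lamPt_mul, ← lamPt_mul, mul_comm]) t ht)
        exact Subgroup.mul_mem _ (Subgroup.mul_mem _ hx (GmAct.U_le_P D' hv)) (Subgroup.inv_mem _ hx)) (Or.inr ⟨1, rfl⟩)
    simpa [Dyn85.conj, lamPt_one] using this
  refine ⟨hsolv, hPcl, hUcl, ?_, hCP, hsplit⟩
  rwa [le_antisymm hC₀le hall] at hC₀irr

set_option maxHeartbeats 4000000 in
/-- The triangular decomposition. -/
theorem exists_triangle {B : Subgroup (HopfPts.Pt k A)} (hB : IsBor (HopfPts.D k A) B)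
    (hσ : GenRep.Gen (HopfPts.D k A) σ)
    (hR : ∀ C : Subgroup (HopfPts.Pt k A), (HopfPts.D k A).IsCl C → (HopfPts.D k A).SIrr C → C.Normal →
      Group.IsSolvable C → (∀ c ∈ C, IsNilpotent (σ c - 1)) → C = ⊥) :
    ∃ (lam : A →ₐc[k] k[T;T⁻¹]) (T B₁ B₂ : Subgroup (HopfPts.Pt k A)) (c : HopfPts.Pt k A) (h : A),
      B₁ = B.map (MulAut.conj c).toMonoidHom ∧ IsBor (HopfPts.D k A) B₂ ∧ IsMax (HopfPts.D k A) T ∧
      (∀ x : kˣ, lamPt (R := k) lam x ∈ T) ∧ T ≤ B₁ ∧ T ≤ B₂ ∧ ptsSub ((ofLam lam).U k) ≤ B₁ ∧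
      (∀ b ∈ B₁, ∃ t ∈ T, ∃ u ∈ ptsSub ((ofLam lam).U k), b = t * u) ∧
      (∀ b ∈ B₁, IsNilpotent (σ b - 1) → b ∈ ptsSub ((ofLam lam).U k)) ∧
      (∀ b ∈ B₂, ∃ t ∈ T, ∃ n ∈ ptsSub ((ofLam lam).neg.U k), b = t * n) ∧
      (∀ v ∈ ptsSub ((ofLam lam).U k), IsNilpotent (σ v - 1)) ∧
      (∀ v ∈ ptsSub ((ofLam lam).neg.U k), IsNilpotent (σ v - 1)) ∧
      (∀ v ∈ ptsSub ((ofLam lam).neg.U k), v ∈ B₂) ∧
      (∀ b ∈ B₂, IsNilpotent (σ b - 1) → b ∈ ptsSub ((ofLam lam).neg.U k)) ∧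
      h ≠ 0 ∧ ∀ χ : HopfPts.Pt k A, χ.ofConv h ≠ 0 →
        ∃ n ∈ ptsSub ((ofLam lam).neg.U k), ∃ t ∈ T, ∃ u ∈ ptsSub ((ofLam lam).U k), χ = n * (t * u) := by
  classical
  set Γ := HopfPts.Pt k A
  set DA := HopfPts.D k A
  have hirr : DA.SIrr Set.univ := HopfPts.sirr_univ
  have hmul : HasMul DA := Scheme'.hasMul_pts
  obtain ⟨T, hTB, hT, -, -⟩ := MaxTorus.exists_max hmul hσ hB
  obtain ⟨e, a, lam, hlam, hTd, hmem, hcent⟩ := exists_cochar_diag hσ hT.tor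
  let D : GmAct k A := ofLam lam
  choose f hf using fun i l => hσ.reg (e l) (e.coord i)
  have hf' : ∀ i l (g : Γ), g.ofConv (f i l) = e.repr (σ g (e l)) i := fun i l g => congrFun (hf i l) g
  have hcou : ∀ i l, Coalgebra.counit (R := k) (f i l) = if l = i then 1 else 0 := fun i l => by
    have := hf' i l 1
    rw [map_one, End.one_apply, Basis.repr_self, Finsupp.single_apply] at this
    rw [← this]
    show _ = (1 : WithConv (A →ₐ[k] k)).ofConv (f i l)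
    simp [AlgHom.convOne_def]
  have hone : ∀ i l, e.repr ((1 : Module.End k W) (e l)) i = if l = i then 1 else 0 := fun i l => by
    rw [End.one_apply, Basis.repr_self, Finsupp.single_apply]
  have hU : ∀ g ∈ ptsSub (D.U k), Lvl e a 1 (σ g - 1) := fun g hg i l h => by
    rw [LinearMap.sub_apply, map_sub, Finsupp.sub_apply, hone, ← hf', sub_eq_zero]
    obtain ⟨hP, h0⟩ := (GmAct.mem_U_iff D).mp hg
    by_cases hil : a i < a l
    · have h1 := (GmAct.mem_P_iff D).mp hP (a i - a l) (by omega) (f i l)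
      rw [apply_π lam hlam (hf' i l) g, if_pos rfl] at h1
      rw [h1, if_neg (by rintro rfl; omega)]
    · have h1 := h0 (f i l)
      rw [apply_π lam hlam (hf' i l) g, if_pos (by omega), Algebra.algebraMap_self, RingHom.id_apply, hcou] at h1
      exact h1
  have hN : ∀ g ∈ ptsSub (D.neg.U k), Lvl e (fun i => -a i) 1 (σ g - 1) := fun g hg i l h => by
    rw [LinearMap.sub_apply, map_sub, Finsupp.sub_apply, hone, ← hf', sub_eq_zero]
    obtain ⟨hP, h0⟩ := (GmAct.mem_U_iff D.neg).mp hg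
    have h : -a i < -a l + 1 := h
    by_cases hil : a l < a i
    · have h1 := (GmAct.mem_P_iff D.neg).mp hP (-(a i - a l)) (by omega) (f i l)
      rw [GmAct.neg_π, neg_neg, apply_π lam hlam (hf' i l) g, if_pos rfl] at h1
      rw [h1, if_neg (by rintro rfl; omega)]
    · have h1 := h0 (f i l)
      rw [GmAct.neg_π, neg_zero, apply_π lam hlam (hf' i l) g, if_pos (by omega), Algebra.algebraMap_self,
        RingHom.id_apply, hcou] at h1
      exact h1
  have hUl : ptsSub (D.U k) ≤ lvlGroup σ e a 1 := fun g hg => ⟨hU g hg, hU _ ((ptsSub (D.U k)).inv_mem hg)⟩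
  have hNl : ptsSub (D.neg.U k) ≤ lvlGroup σ e (fun i => -a i) 1 :=
    fun g hg => ⟨hN g hg, hN _ ((ptsSub (D.neg.U k)).inv_mem hg)⟩
  obtain ⟨hCcl, hCirr⟩ := sirr_centralizer hirr hmul hσ hB hT.tor
  have hCB : ∀ {B' : Subgroup Γ}, IsBor DA B' → T ≤ B' → Subgroup.centralizer (T : Set Γ) ≤ B' :=
    fun hB' hle => MaxTorus.centralizer_le hirr hmul hσ hB' hT hle
  have hTs : Group.IsSolvable (Subgroup.centralizer (T : Set Γ)) :=
    haveI := hB.solv
    Group.isSolvable_of_isSolvable_injective (Subgroup.inclusion_injective (hCB hB hTB))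
  obtain ⟨hPs, hPcl, hUcl, hPirr, hCP, hPsplit⟩ := part_props (D' := D) (Or.inl rfl) hTs hCirr hcent hmem
    (isSolvable_of_lvl σ e a hσ.faith _ hUl)
  obtain ⟨hMs, hMcl, hNcl, hMirr, hCM, hMsplit⟩ := part_props (D' := D.neg) (Or.inr rfl) hTs hCirr hcent hmem
    (isSolvable_of_lvl σ e (fun i => -a i) hσ.faith _ hNl)
  obtain ⟨c₁, hc₁⟩ := hB.abs _ hPs hPirr
  obtain ⟨c₂, hc₂⟩ := hB.abs _ hMs hMirr
  set B₁ := B.map (MulAut.conj c₁).toMonoidHom
  set B₂ := B.map (MulAut.conj c₂).toMonoidHom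
  have hB₁ : IsBor DA B₁ := isBor_conj hB c₁
  have hB₂ : IsBor DA B₂ := isBor_conj hB c₂
  have hP₁ : ptsSub (D.P k) ≤ B₁ := fun p hp => mem_map.mpr (hc₁ p hp)
  have hM₂ : ptsSub (D.neg.P k) ≤ B₂ := fun p hp => mem_map.mpr (hc₂ p hp)
  have hTC : ∀ t ∈ T, t ∈ Subgroup.centralizer (T : Set Γ) := fun t ht =>
    Subgroup.mem_centralizer_iff.mpr fun s hs => hT.tor.comm s hs t ht
  have hTB₁ : T ≤ B₁ := fun t ht => hP₁ (hCP t (hTC t ht))
  have hTB₂ : T ≤ B₂ := fun t ht => hM₂ (hCM t (hTC t ht))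
  have hπ : ∀ t ∈ T, ∀ (g : Γ) (f : A) (j : ℤ),
      (t * g * t⁻¹).ofConv (D.π j f) = g.ofConv (D.π j (HopfPts.lcon t (HopfPts.rcon t⁻¹ f))) := fun t ht g f j => by
    have hc : ∀ p : Γ, p.ofConv (HopfPts.lcon t (HopfPts.rcon t⁻¹ f)) = (t * p * t⁻¹).ofConv f := fun p => by
      rw [HopfPts.apply_lcon, HopfPts.apply_rcon]
    have key : D.pt k (t * g * t⁻¹) f = D.pt k g (HopfPts.lcon t (HopfPts.rcon t⁻¹ f)) := laurent_ext fun x => by
      rw [← eval_pt, ← eval_pt, hc]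
      refine congrArg (fun q : Γ => q.ofConv f) ?_
      have hcm : Commute t (lamPt (R := k) lam x : Γ) := hT.tor.comm _ ht _ (hmem x)
      show (lamPt (R := k) lam x : Γ) * (t * g * t⁻¹) * (lamPt (R := k) lam x : Γ)⁻¹ =
        t * ((lamPt (R := k) lam x : Γ) * g * (lamPt (R := k) lam x : Γ)⁻¹) * t⁻¹
      exact conj_comm hcm g
    have h1 := congrArg (fun L : k[T;T⁻¹] => L.coeff j) key
    simp only [GmAct.coeff_pt] at h1
    exact h1
  have hcounit : ∀ (t : Γ) (f : A), Coalgebra.counit (R := k) (HopfPts.lcon t (HopfPts.rcon t⁻¹ f)) =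
      Coalgebra.counit (R := k) f := fun t f => by simpa using counit_conjFn t⁻¹ f
  have hTU : ∀ t ∈ T, ∀ g ∈ ptsSub (D.U k), t * g * t⁻¹ ∈ ptsSub (D.U k) := fun t ht g hg => by
    obtain ⟨hP, h0⟩ := (GmAct.mem_U_iff _).mp hg
    refine (GmAct.mem_U_iff _).mpr ⟨(GmAct.mem_P_iff _).mpr fun m hm f => ?_, fun f => ?_⟩
    · exact (hπ t ht g f m).trans ((GmAct.mem_P_iff _).mp hP m hm _)
    · exact (hπ t ht g f 0).trans ((h0 _).trans (by rw [hcounit t f]))
  have hTN : ∀ t ∈ T, ∀ g ∈ ptsSub (D.neg.U k), t * g * t⁻¹ ∈ ptsSub (D.neg.U k) := fun t ht g hg => by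
    obtain ⟨hP, h0⟩ := (GmAct.mem_U_iff _).mp hg
    refine (GmAct.mem_U_iff _).mpr ⟨(GmAct.mem_P_iff _).mpr fun m hm f => ?_, fun f => ?_⟩
    · have h1 := (GmAct.mem_P_iff _).mp hP m hm (HopfPts.lcon t (HopfPts.rcon t⁻¹ f))
      rw [GmAct.neg_π] at h1 ⊢
      exact (hπ t ht g f (-m)).trans h1
    · have h1 := h0 (HopfPts.lcon t (HopfPts.rcon t⁻¹ f))
      rw [GmAct.neg_π, neg_zero] at h1 ⊢
      exact (hπ t ht g f 0).trans (h1.trans (by rw [hcounit t f]))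
  have hU0 : ∀ g ∈ ptsSub (D.U k), ∀ f, g.ofConv (D.π 0 f) = Coalgebra.counit (R := k) f := fun g hg f => by
    simpa using ((GmAct.mem_U_iff _).mp hg).2 f
  have hN0 : ∀ g ∈ ptsSub (D.neg.U k), ∀ f, g.ofConv (D.π 0 f) = Coalgebra.counit (R := k) f := fun g hg f => by
    simpa [GmAct.neg_π] using ((GmAct.mem_U_iff _).mp hg).2 f
  have hI₁ : B₁ ⊓ ptsSub (D.neg.U k) = ⊥ := inter_eq_bot hσ hR hT hB₁ hTB₁ hlam hTd hmem hcent
    (a' := fun i => -a i) (fun i l h => by rw [h]) hNcl hTN hNl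
    (fun g hg => sirr_curve lam g (hN0 g hg))
    fun n g g' hg hx => hP₁ (GmAct.U_le_P D (mem_U_of_neg lam n g g' hg hx))
  have hI₂ : B₂ ⊓ ptsSub (D.U k) = ⊥ := inter_eq_bot hσ hR hT hB₂ hTB₂ hlam hTd hmem hcent
    (a' := a) (fun i l h => h) hUcl hTU hUl
    (fun g hg => sirr_curve lam g (hU0 g hg))
    fun n g g' hg hx => hM₂ (GmAct.U_le_P D.neg (mem_neg_U_of lam n g g' hg hx))
  have hCeq : Subgroup.centralizer (T : Set Γ) ≤ T := by
    set C := Subgroup.centralizer (T : Set Γ) with hC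
    haveI := hTs
    obtain ⟨T₀, U₀, τ, hs⟩ := Split.exists_split (DA.restrict C hCcl)
      (DA.sirr_restrict.mpr (by rw [Set.image_univ, Subtype.range_coe_subtype]; exact hCirr)) (σ.comp C.subtype)
      (GenRep.Gen.restrict DA hσ C hCcl)
    have hset : ((U₀.map C.subtype : Subgroup Γ) : Set Γ) = Subtype.val '' (U₀ : Set C) := Subgroup.coe_map _ _
    obtain ⟨K, hK1, hK2, hK3, hK4, hK5, hK6⟩ := Chevalley.exists_normal_unipotent hmul hσ hB₁ hT hTB₁
      (hset ▸ DA.sirr_restrict.mp hs.irrU : DA.SIrr (U₀.map C.subtype : Subgroup Γ))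
      (by rintro _ ⟨u, hu, rfl⟩; exact (hs.nilp u).mpr hu)
      (by
        rintro g hg _ ⟨u, -, rfl⟩
        exact mem_map.mp (hCB (isBor_conj hB₁ g) (fun t ht => mem_map.mpr (hg t ht)) u.2))
    have hU₀ : ∀ u ∈ U₀, u = 1 := fun u hu => Subtype.ext (by
      have h := hK6 ⟨u, hu, rfl⟩
      rw [hR K hK1 hK2 hK3 hK4 hK5, Subgroup.mem_bot] at h
      exact h)
    have hfix : ∀ z : C, τ z = z := fun z => by
      have h1 : (τ z)⁻¹ * z ∈ U₀ := (hs.tau_ker _).mp (by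
        rw [map_mul, map_inv, hs.tau_fix _ (hs.tau_mem z), inv_mul_cancel])
      exact inv_mul_eq_one.mp (hU₀ _ h1)
    intro z hz
    have h2 := hT.max _ (CartanDense.isTor_split hs) (fun t ht =>
      ⟨⟨t, hTC t ht⟩, by rw [← hfix ⟨t, hTC t ht⟩]; exact hs.tau_mem _, rfl⟩)
    exact h2 ⟨⟨z, hz⟩, by rw [← hfix ⟨z, hz⟩]; exact hs.tau_mem _, rfl⟩
  -- a basic open of the cell around the identity
  obtain ⟨n, π, hπ'⟩ := Groth.Agent.S16480.result k A
  let Spμ := Spec.map (CommRingCat.ofHom (mu (k := k) D.neg.JU D.JP).toRingHom)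
  haveI hopen : IsOpenImmersion Spμ := isOpenImmersion_mu_field π hπ' lam D.neg.rep_U D.rep_P
  obtain ⟨φ₁, hφf, hφs⟩ := GmAct.exists_factor (D := D) D.neg.rep_U D.rep_P (R := k) (one_mem _) (one_mem _)
  let p₀ : PrimeSpectrum ((A ⧸ D.neg.JU) ⊗[k] (A ⧸ D.JP)) := ⟨RingHom.ker φ₁.toRingHom, RingHom.ker_isPrime _⟩
  obtain ⟨_, ⟨h, rfl⟩, hzD, hD⟩ := PrimeSpectrum.isTopologicalBasis_basic_opens.exists_subset_of_mem_open
    (Set.mem_range_self p₀) Spμ.opensRange.isOpen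
  have hh1 : (1 : Γ).ofConv h ≠ 0 := fun h0 => by
    refine hzD ?_
    show φ₁ (mu (k := k) D.neg.JU D.JP h) = 0
    have h1 := congrArg (fun q : Lib.Dyn85.Pt k A k => q h) (fst_mul_snd φ₁)
    rw [hφf, hφs, _root_.one_mul] at h1
    exact h1.symm.trans h0
  have hcell : ∀ χ : Γ, χ.ofConv h ≠ 0 → ∃ s ∈ ptsSub (D.neg.U k), ∃ p ∈ ptsSub (D.P k), χ = s * p := fun χ hχ => by
    let q : Spec (CommRingCat.of k) ⟶ Spec (CommRingCat.of A) := Spec.map (CommRingCat.ofHom χ.ofConv.toRingHom)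
    have hq : Set.range q ⊆ Set.range Spμ := by
      rintro _ ⟨o, rfl⟩
      exact hD fun hm => o.isPrime.ne_top (o.asIdeal.eq_top_of_isUnit_mem hm (Ne.isUnit hχ))
    let l := IsOpenImmersion.lift Spμ q hq
    obtain ⟨ψ, hψ⟩ := Spec.map_surjective l
    have hfac : CommRingCat.ofHom (mu (k := k) D.neg.JU D.JP).toRingHom ≫ ψ = CommRingCat.ofHom χ.ofConv.toRingHom := by
      apply Spec.map_injective
      rw [Spec.map_comp, hψ]
      exact IsOpenImmersion.lift_fac Spμ q hq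
    let φ : (A ⧸ D.neg.JU) ⊗[k] (A ⧸ D.JP) →ₐ[k] k :=
      { ψ.hom with
        commutes' := fun r => by
          show ψ.hom (algebraMap k _ r) = _
          rw [← (mu (k := k) D.neg.JU D.JP).commutes r]
          exact (congrArg (fun w => w.hom (algebraMap k A r)) hfac).trans (χ.ofConv.commutes r) }
    refine ⟨fstPt φ, GmAct.fstPt_mem D.neg.rep_U φ, sndPt φ, GmAct.sndPt_mem D.rep_P φ, ?_⟩
    refine Eq.trans ?_ (fst_mul_snd φ).symm
    exact pt_ext fun b => (congrArg (fun w => w.hom b) hfac).symm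
  let hfun : DA.R := ⟨HopfPts.ev k A h, ⟨h, rfl⟩⟩
  have dense : ∀ (B' : Subgroup Γ) (P' : Subgroup Γ), IsBor DA B' → DA.IsCl P' →
      (∀ χ ∈ B', χ.ofConv h ≠ 0 → χ ∈ P') → B' ≤ P' := fun B' P' hB' hP' hsub b hb => by
    refine hP' fun F hF => ?_
    have hprod : F * hfun ∈ DA.vI (B' : Set Γ) := fun c hc => by
      show (F : Γ → k) c * c.ofConv h = 0
      by_cases hc0 : c.ofConv h = 0
      · rw [hc0, mul_zero]
      · rw [hF c (hsub c hc hc0), zero_mul]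
    exact ((hB'.irr F hfun hprod).resolve_right fun hh => hh1 (hh 1 B'.one_mem)) b hb
  have hB₁P : B₁ ≤ ptsSub (D.P k) := dense _ _ hB₁ hPcl fun χ hχ hh => by
    obtain ⟨s, hs, p, hp, rfl⟩ := hcell χ hh
    have hs1 : s ∈ B₁ ⊓ ptsSub (D.neg.U k) := ⟨by
      simpa using B₁.mul_mem hχ (B₁.inv_mem (hP₁ hp)), hs⟩
    rw [hI₁, Subgroup.mem_bot] at hs1
    rw [hs1, _root_.one_mul]
    exact hp
  have hB₂M : B₂ ≤ ptsSub (D.neg.P k) := dense _ _ hB₂ hMcl fun χ hχ hh => by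
    obtain ⟨s, hs, p, hp, rfl⟩ := hcell χ hh
    have hsB : s ∈ B₂ := hM₂ (GmAct.U_le_P D.neg hs)
    obtain ⟨z, hz, v, hv, rfl⟩ := hPsplit p hp
    have hv1 : v ∈ B₂ ⊓ ptsSub (D.U k) := ⟨by
      have h1 := B₂.mul_mem (B₂.inv_mem (hM₂ (hCM z hz))) (B₂.mul_mem (B₂.inv_mem hsB) hχ)
      simpa using h1, hv⟩
    rw [hI₂, Subgroup.mem_bot] at hv1
    rw [hv1, _root_.mul_one]
    exact Subgroup.mul_mem _ (GmAct.U_le_P D.neg hs) (hCM z hz)
  have hB₁split : ∀ b ∈ B₁, ∃ t ∈ T, ∃ v ∈ ptsSub (D.U k), b = t * v := fun b hb => by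
    obtain ⟨z, hz, v, hv, he⟩ := hPsplit b (hB₁P hb)
    exact ⟨z, hCeq hz, v, hv, he⟩
  have htriv : ∀ {B' : Subgroup Γ}, IsBor DA B' → ∀ t ∈ T, ∀ v, IsNilpotent (σ v - 1) → v ∈ B' → t * v ∈ B' →
      IsNilpotent (σ (t * v) - 1) → t = 1 := fun {B'} hB' t ht v hvn hvB hb hnil => by
    haveI := hB'.solv
    obtain ⟨T₀, U₀, τ, hs⟩ := Split.exists_split (DA.restrict B' hB'.cl)
      (DA.sirr_restrict.mpr (by rw [Set.image_univ, Subtype.range_coe_subtype]; exact hB'.irr)) (σ.comp B'.subtype)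
      (GenRep.Gen.restrict DA hσ B' hB'.cl)
    let v' : B' := ⟨v, hvB⟩
    have h1 : (⟨t * v, hb⟩ : B') * v'⁻¹ ∈ U₀ := U₀.mul_mem ((hs.nilp _).mp hnil)
      (U₀.inv_mem ((hs.nilp v').mp hvn))
    have h2 : IsNilpotent (σ t - 1) := by
      have := (hs.nilp _).mpr h1
      simpa [v', mul_assoc, ← map_mul σ] using this
    refine hσ.faith (e.ext fun i => ?_)
    obtain ⟨c, hc⟩ := hTd t ht i
    obtain ⟨N, hN⟩ := h2
    have hpow : ∀ m : ℕ, ((σ t - 1) ^ m) (e i) = (c - 1) ^ m • e i := fun m => by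
      induction m with
      | zero => simp
      | succ m ih =>
        rw [pow_succ', End.mul_apply, ih, map_smul, LinearMap.sub_apply, hc, End.one_apply, smul_sub, smul_smul,
          ← sub_smul, pow_succ']
        congr 1; ring
    have h3 := hpow N
    rw [hN, LinearMap.zero_apply] at h3
    have hc1 : c = 1 := by
      have h4 := (smul_eq_zero.mp h3.symm).resolve_right (e.ne_zero i)
      exact sub_eq_zero.mp (pow_eq_zero_iff'.mp h4).1
    rw [hc, hc1, one_smul, map_one, End.one_apply]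
  have hNB₂ : ∀ v ∈ ptsSub (D.neg.U k), v ∈ B₂ := fun v hv => hM₂ (GmAct.U_le_P D.neg hv)
  have hB₂split : ∀ b ∈ B₂, ∃ t ∈ T, ∃ v ∈ ptsSub (D.neg.U k), b = t * v := fun b hb => by
    obtain ⟨z, hz, v, hv, he⟩ := hMsplit b (hB₂M hb)
    exact ⟨z, hCeq hz, v, hv, he⟩
  have hUnil : ∀ v ∈ ptsSub (D.U k), IsNilpotent (σ v - 1) := fun v hv => nilp_of_lvl (hU v hv)
  have hNnil : ∀ v ∈ ptsSub (D.neg.U k), IsNilpotent (σ v - 1) := fun v hv => nilp_of_lvl (hN v hv)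
  refine ⟨lam, T, B₁, B₂, c₁, h, rfl, hB₂, hT, hmem, hTB₁, hTB₂, fun v hv => hP₁ (GmAct.U_le_P D hv), hB₁split,
    fun b hb hnil => ?_, hB₂split, hUnil, hNnil, hNB₂, fun b hb hnil => ?_, fun h0 => hh1 (by rw [h0, map_zero]),
    fun χ hχ => ?_⟩
  · obtain ⟨t, ht, v, hv, rfl⟩ := hB₁split b hb
    rw [htriv hB₁ t ht v (hUnil v hv) (hP₁ (GmAct.U_le_P D hv)) hb hnil, _root_.one_mul]
    exact hv
  · obtain ⟨t, ht, v, hv, rfl⟩ := hB₂split b hb
    rw [htriv hB₂ t ht v (hNnil v hv) (hNB₂ v hv) hb hnil, _root_.one_mul]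
    exact hv
  · obtain ⟨s, hs, p, hp, rfl⟩ := hcell χ hχ
    obtain ⟨z, hz, v, hv, rfl⟩ := hPsplit p hp
    exact ⟨s, hs, z, hCeq hz, v, hv, rfl⟩

end Groth.Agent.Lib.H1.Grosshans
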