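import Groth.Agent.Lib.H1.Grosshans.Main
import Groth.Agent.H1.Obs.TransferFG

/-!
# Stable subalgebras
-/

universe u

open CategoryTheory MonoidalCategory CartesianMonoidalCategory MonObj GrpObj AlgebraicGeometry
open scoped TensorProduct

namespace Groth.Agent.Lib.H1.Grosshans

set_option linter.style.haveILetI false
set_option linter.unusedSectionVars false

open Groth.Agent.Lib.RedPts Groth.Agent.Lib.RedPts.Points
open Groth.Agent.H1.Classical.Scheme' Groth.Agent.H1.Obs Groth.Agent.H1.Obs.UFG Groth.Agent.H1.RInv

attribute [local instance] baseAlgebra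

variable {k : Type u} [Field k] {G : Over (Spec (CommRingCat.of k))} [GrpObj G]

/-- A stable subspace is stable under the rational points. -/
theorem act_mem_of_stable {M : Type u} [AddCommGroup M] [Module k M] {ρ : VecGrp.GMod G M} {W : Submodule k M}
    (hW : ρ.IsStable (𝟙 G) W) (x : P G) {v : M} (hv : v ∈ W) : act ρ x v ∈ W := by
  have h := hW k (toPt x) v hv
  rw [Category.comp_id, act_apply] at h
  have key : ∀ z ∈ W.baseChange k, TensorProduct.lid k M z ∈ W := fun z hz => by
    rw [Submodule.baseChange_eq_span] at hz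
    induction hz using Submodule.span_induction with
    | mem y hy =>
      obtain ⟨w, hw, rfl⟩ := hy
      simpa using hw
    | zero => simp
    | add p q _ _ hp hq => rw [map_add]; exact W.add_mem hp hq
    | smul r p _ hp => rw [map_smul]; exact W.smul_mem r hp
  simpa using key _ h

variable [IsAlgClosed k] [IsAffine G.left] [Smooth G.hom] {H : Over (Spec (CommRingCat.of k))} [GrpObj H]
  [IsAffine H.left] [Smooth H.hom] {A : Type u} [CommRing A] [Algebra k A] {ρ : VecGrp.GMod G A}

theorem mem_fixed_restrict (hρ : ρ.IsMult) (S : Subalgebra k A) (hS : ∀ (x : P G), ∀ s ∈ S, act ρ x s ∈ S) (i : H ⟶ G)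
    (s : S) : s ∈ (restrictMod ρ hρ S hS).fixedUnder i ↔ (s : A) ∈ ρ.fixedUnder i := by
  rw [mem_fixedUnder_iff, mem_fixedUnder_iff]
  constructor
  · intro h z
    rw [← act_restrictMod ρ hρ S hS, h z]
  · intro h z
    exact Subtype.ext (by rw [act_restrictMod ρ hρ S hS, h z])

/-- The action on a stable subalgebra is compatible with the module structure of the algebra. -/
theorem isCompat_restrict (hρ : ρ.IsMult) (S : Subalgebra k A) (hS : ∀ (x : P G), ∀ s ∈ S, act ρ x s ∈ S) :
    VecGrp.GMod.IsCompat (restrictMod ρ hρ S hS) ρ := fun B _ _ g x y => by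
  have key : ∀ (x : B ⊗[k] S) (y : B ⊗[k] A), VecGrp.GMod.smulW k S A B x y = incl S B x * y := fun x y => by
    induction x using TensorProduct.induction_on with
    | zero => simp
    | add p q hp hq => simp only [map_add, LinearMap.add_apply, hp, hq, add_mul]
    | tmul b s =>
      induction y using TensorProduct.induction_on with
      | zero => simp
      | add p q hp hq => simp only [map_add, hp, hq, mul_add]
      | tmul c a =>
        rw [show incl S B (b ⊗ₜ s) = b ⊗ₜ[k] (s : A) from rfl, Algebra.TensorProduct.tmul_mul_tmul]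
        rfl
  rw [key, key, (hρ B g).1]
  congr 1
  exact (incl_restrictHom ρ hρ S hS g x).symm

/-- The invariants of a finitely generated algebra are finitely generated. -/
theorem finiteType_fixed_radical {Bo U : Over (Spec (CommRingCat.of k))} [GrpObj Bo] [GrpObj U] {iB : Bo ⟶ G} {u : U ⟶ Bo}
    (hG : VecGrp.IsReductiveGrp k G) (hB : Red.IsBorelOver k iB) (hU : Par.IsUnipotentRadical u)
    (thmA : VecGrp.ReductiveInvariantsFG k) [Algebra.FiniteType k A] (hρ : ρ.IsMult) :
    Algebra.FiniteType k ↥(ρ.fixedSubalgebra hρ (u ≫ iB)) := by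
  obtain ⟨hm, hA, hS, -, -⟩ := props_of_radical hB hU
  haveI := hm
  haveI := hA
  haveI := hS
  exact finiteType_fixed (u ≫ iB) hG thmA (subringFGOver_invariants hB hU) A ρ hρ

end Groth.Agent.Lib.H1.Grosshans
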