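import Groth.Agent.Lib.H1.Grosshans.Main

/-!
# Connected groups map into open subgroups
-/

universe u

open CategoryTheory MonoidalCategory CartesianMonoidalCategory MonObj GrpObj AlgebraicGeometry

namespace Groth.Agent.Lib.H1.Grosshans

set_option linter.style.haveILetI false
set_option linter.unusedSectionVars false

open Groth.Agent.H1.Obs Groth.Agent.H1.Obs.UFG

variable {k : Type u} [Field k] [IsAlgClosed k]

theorem exists_lift_open {G G₀ K : Over (Spec (CommRingCat.of k))} [GrpObj G] [GrpObj G₀] [GrpObj K] [IsAffine G.left]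
    [Smooth G.hom] [IsAffine G₀.left] [ConnectedSpace K.left] (j : G₀ ⟶ G) [IsMonHom j] [IsOpenImmersion j.left]
    (f : K ⟶ G) [IsMonHom f] : ∃ b : K ⟶ G₀, b ≫ j = f ∧ IsMonHom b := by
  haveI : IsClosedImmersion j.left := isClosedImmersion_of_open j
  haveI : Mono j := Over.mono_of_mono_left j
  have hsub : Set.range f.left ⊆ Set.range j.left := by
    refine (isPreconnected_range f.left.continuous).subset_isClopen
      ⟨j.left.isClosedEmbedding.isClosed_range, j.left.isOpenEmbedding.isOpen_range⟩
      ⟨η[G].left (IsLocalRing.closedPoint k), ⟨η[K].left (IsLocalRing.closedPoint k), ?_⟩,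
        η[G₀].left (IsLocalRing.closedPoint k), ?_⟩
    · exact congrArg (fun φ : 𝟙_ (Over (Spec (CommRingCat.of k))) ⟶ G => φ.left (IsLocalRing.closedPoint k))
        (IsMonHom.one_hom (f := f))
    · exact congrArg (fun φ : 𝟙_ (Over (Spec (CommRingCat.of k))) ⟶ G => φ.left (IsLocalRing.closedPoint k))
        (IsMonHom.one_hom (f := j))
  let b : K ⟶ G₀ := Over.homMk (IsOpenImmersion.lift j.left f.left hsub) (by
    rw [← Over.w j, IsOpenImmersion.lift_fac_assoc, Over.w])
  have hb : b ≫ j = f := Over.OverMorphism.ext (IsOpenImmersion.lift_fac j.left f.left hsub)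
  exact ⟨b, hb,
    { one_hom := by rw [← cancel_mono j, Category.assoc, hb, IsMonHom.one_hom, IsMonHom.one_hom]
      mul_hom := by
        rw [← cancel_mono j, Category.assoc, hb, IsMonHom.mul_hom, Category.assoc, IsMonHom.mul_hom j,
          MonoidalCategory.tensorHom_comp_tensorHom_assoc, hb] }⟩

end Groth.Agent.Lib.H1.Grosshans
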