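import Groth.Agent.Lib.H1.Grosshans.Extra
import Groth.Agent.Lib.H1.Grosshans.OpenLift
import Groth.Agent.H1.Obs.UFG.Main
import Groth.Agent.H1.Obs.UFG.Identity

/-!
# Functions invariant under a subgroup containing a maximal unipotent subgroup
-/

universe u

open CategoryTheory MonoidalCategory CartesianMonoidalCategory MonObj GrpObj AlgebraicGeometry
open scoped TensorProduct

namespace Groth.Agent.Lib.H1.Grosshans

set_option linter.style.haveILetI false
set_option linter.unusedSectionVars false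

open Groth.Agent.Lib.RedPts Groth.Agent.Lib.RedPts.Points
open Groth.Agent.H1.Classical.Scheme' Groth.Agent.H1.Obs Groth.Agent.H1.Obs.UFG Groth.Agent.H1.RInv

attribute [local instance] baseAlgebra

variable {k : Type u} [Field k] [IsAlgClosed k] {G B U H : Over (Spec (CommRingCat.of k))} [GrpObj G] [GrpObj B]
  [GrpObj U] [GrpObj H] [IsAffine G.left] [Smooth G.hom] [IsAffine H.left] [Smooth H.hom]

set_option maxHeartbeats 4000000 in
/-- Invariants of a subgroup containing a maximal unipotent subgroup in a connected reductive group. -/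
theorem fg_invAlg_of_contains [ConnectedSpace G.left] (hG : Red.IsReductiveOver k G) {iB : B ⟶ G}
    (hB : Red.IsBorelOver k iB) {u : U ⟶ B} (hU : Par.IsUnipotentRadical u) (i : H ⟶ G) [IsMonHom i]
    (hUH : ∀ z : P U, ∃ y : P H, y ≫ i = z ≫ u ≫ iB) : (invAlg (G := G) i).FG := by
  classical
  obtain ⟨Bc⟩ := exists_bigCell hG hB hU
  letI := Bc.grpB2
  letI := Bc.grpU2
  have hB2 := Bc.hB2
  have hU2 := Bc.hU2
  haveI := hB2.1
  haveI := hB2.2.1
  obtain ⟨hm2, hU2a, hU2s, -, -⟩ := props_of_radical hB2 hU2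
  haveI := hU2a
  haveI := hU2s
  haveI : IsReduced G.left := Groth.Agent.Lib.GrpSch.isReduced_of_smooth_field G.hom
  haveI := Groth.Agent.H1.Obs.isDomain_functions G
  haveI := smooth_Γ G
  haveI : IsIntegrallyClosed Γ(G.left, ⊤) := Lib.Flat55.SmoothBCNormalization.isIntegrallyClosed_of_smooth k
  haveI : IsNoetherianRing Γ(G.left, ⊤) := isNoetherianRing_Γ (G := G)
  have hGrp : VecGrp.IsReductiveGrp k G := by
    refine ⟨inferInstance, inferInstance, G, inferInstance, 𝟙 G, inferInstance, ?_, hG⟩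
    rw [Over.id_left]
    infer_instance
  let Ln : Γ(G.left, ⊤) → Prop := fun f => ∀ n' ∈ Bc.Ns, ∀ x, ev (n' * x) f = ev x f
  let Le : (Bc.Ts → k) → Γ(G.left, ⊤) → Prop := fun c f => ∀ (t : Bc.Ts) x, ev ((t : P G) * x) f = c t * ev x f
  let Φ : Set Γ(G.left, ⊤) := {f | f ≠ 0 ∧ Inv i f ∧ Ln f ∧ ∃ c, Le c f}
  let h₀ := rtr Bc.a0⁻¹ Bc.h
  have hh₀ : h₀ ≠ 0 := fun h0 => Bc.h_ne (ext_points fun x => by
    have h1 := congrArg (ev (x * Bc.a0)) h0
    rw [ev_rtr, mul_inv_cancel_right, map_zero] at h1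
    rw [h1, map_zero])
  have hform : ∀ x, ev x h₀ ≠ 0 →
      ∃ t, ∀ (c : Bc.Ts → k) f, Inv i f → Ln f → Le c f → ev x f = c t * ev Bc.a0 f := by
    intro x hx
    rw [ev_rtr] at hx
    obtain ⟨n', hn', t, ht, v, hv, hxe⟩ := Bc.cell _ hx
    obtain ⟨z, rfl⟩ := (Bc.mem_Us v).mp hv
    obtain ⟨y, hy⟩ := hUH z
    refine ⟨⟨t, ht⟩, fun c f hfi hfn hfc => ?_⟩
    have hx' : x = n' * (t * (Bc.a0 * (y ≫ i))) := by
      rw [mul_inv_eq_iff_eq_mul.mp hxe, hy]
      group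
    rw [hx', hfn n' hn', hfc ⟨t, ht⟩, hfi]
  have hzero : ∀ f, (∀ x, ev x h₀ ≠ 0 → ev x f = 0) → f = 0 := fun f hf => by
    have h1 : f * h₀ = 0 := ext_points fun x => by
      rw [map_mul, map_zero]
      by_cases hx : ev x h₀ = 0
      · rw [hx, mul_zero]
      · rw [hf x hx, zero_mul]
    exact (mul_eq_zero.mp h1).resolve_right hh₀
  have ha0 : ∀ (c : Bc.Ts → k) f, f ≠ 0 → Inv i f → Ln f → Le c f → ev Bc.a0 f ≠ 0 :=
    fun c f hf hfi hfn hfc h0 => hf (hzero f fun x hx => by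
      obtain ⟨t, ht⟩ := hform x hx
      rw [ht c f hfi hfn hfc, h0, mul_zero])
  have hc0 : ∀ (c : Bc.Ts → k) f, f ≠ 0 → Le c f → ∀ t, c t ≠ 0 := fun c f hf hfc t h0 =>
    hf (ext_points fun x => by
      have h1 := hfc t ((t : P G)⁻¹ * x)
      rw [mul_inv_cancel_left, h0, zero_mul] at h1
      rw [h1, map_zero])
  have hne : ∀ f ∈ Φ, ∀ x, ev x h₀ ≠ 0 → ev x f ≠ 0 := by
    rintro f ⟨hf, hfi, hfn, c, hfc⟩ x hx
    obtain ⟨t, ht⟩ := hform x hx
    rw [ht c f hfi hfn hfc]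
    exact mul_ne_zero (hc0 c f hf hfc t) (ha0 c f hf hfi hfn hfc)
  have hdvd : ∀ f ∈ Φ, ∃ m, f ∣ h₀ ^ m := fun f hf => by
    have hmem : h₀ ∈ (Ideal.span {f}).radical := by
      by_contra hh
      obtain ⟨x, hx, hxh⟩ := exists_point_ne _ (Ideal.radical_isRadical _) hh
      exact hne f hf x hxh (hx f (Ideal.le_radical (Ideal.mem_span_singleton_self f)))
    obtain ⟨m, hm⟩ := hmem
    exact ⟨m, Ideal.mem_span_singleton.mp hm⟩
  have hdiv : ∀ f ∈ Φ, ∀ g ∈ Φ, ∀ q, f = g * q → q ∈ Φ := by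
    rintro f ⟨hf0, hfi, hfn, cf, hcf⟩ g ⟨hg0, hgi, hgn, cg, hcg⟩ q rfl
    have hcanc : ∀ (φ : Γ(G.left, ⊤) →ₐ[k] Γ(G.left, ⊤)) (a b : k), a ≠ 0 →
        (∀ x, ev x (φ g) = a * ev x g) → (∀ x, ev x (φ (g * q)) = b * ev x (g * q)) →
          ∀ x, ev x (φ q) = b / a * ev x q := by
      intro φ a b ha hg hfq x
      have h1 : g * (a • φ q - b • q) = 0 := ext_points fun z => by
        have h2 := hfq z
        rw [map_mul, map_mul, hg, map_mul] at h2
        rw [map_zero, map_mul, map_sub, Algebra.smul_def, Algebra.smul_def, map_mul, map_mul, ev_const, ev_const]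
        linear_combination h2
      have h3 := congrArg (ev x) (sub_eq_zero.mp ((mul_eq_zero.mp h1).resolve_left hg0))
      rw [Algebra.smul_def, Algebra.smul_def, map_mul, map_mul, ev_const, ev_const] at h3
      rw [div_mul_eq_mul_div, eq_div_iff ha, mul_comm, h3]
    refine ⟨fun hq => hf0 (by rw [hq, mul_zero]), fun x s => ?_, fun n' hn' x => ?_, fun t => cf t / cg t, fun t x => ?_⟩
    · have h1 := hcanc (rtr (s ≫ i)) 1 1 one_ne_zero
        (fun x => by rw [ev_rtr, hgi, _root_.one_mul]) (fun x => by rw [ev_rtr, hfi, _root_.one_mul]) x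
      rwa [ev_rtr, div_one, _root_.one_mul] at h1
    · have h1 := hcanc (ltr n') 1 1 one_ne_zero
        (fun x => by rw [ev_ltr, hgn n' hn', _root_.one_mul]) (fun x => by rw [ev_ltr, hfn n' hn', _root_.one_mul]) x
      rwa [ev_ltr, div_one, _root_.one_mul] at h1
    · have h1 := hcanc (ltr (t : P G)) (cg t) (cf t) (hc0 cg g hg0 hcg t)
        (fun x => by rw [ev_ltr, hcg]) (fun x => by rw [ev_ltr, hcf]) x
      rwa [ev_ltr] at h1
  have hone : (1 : Γ(G.left, ⊤)) ∈ Φ :=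
    ⟨one_ne_zero, fun x s => by rw [map_one, map_one], fun n' _ x => by rw [map_one, map_one],
      fun _ => 1, fun t x => by rw [map_one, map_one, _root_.mul_one]⟩
  have hmulΦ : ∀ f ∈ Φ, ∀ g ∈ Φ, f * g ∈ Φ := by
    rintro f ⟨hf0, hfi, hfn, c, hc⟩ g ⟨hg0, hgi, hgn, d, hd⟩
    exact ⟨mul_ne_zero hf0 hg0, fun x s => by rw [map_mul, map_mul, hfi, hgi],
      fun n' hn' x => by rw [map_mul, map_mul, hfn n' hn', hgn n' hn'],
      fun t => c t * d t, fun t x => by rw [map_mul, map_mul, hc, hd]; ring⟩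
  obtain ⟨F, hF, hgen⟩ := exists_divGens hh₀ Φ hdvd hdiv
  -- the units of `Φ`
  obtain ⟨n, χ, hχ0, -, hmono⟩ := exists_weights hB2 hU2
  let θ : (Fin n → ℤ) → P Bc.B2 → k := fun m y => ∏ i, χ i y ^ m i
  have hθadd : ∀ m m', θ (m + m') = θ m * θ m' := fun m m' => funext fun y => by
    simp only [θ, Pi.add_apply, Pi.mul_apply, zpow_add₀ (hχ0 _ y), Finset.prod_mul_distrib]
  have hinvF : ∀ f ∈ Φ, invF f ≠ 0 ∧ Inv (Bc.u2 ≫ Bc.iB2) (invF f) ∧
      ∃ c : P Bc.B2 → k, Semi Bc.iB2 c (invF f) := by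
    rintro f ⟨hf0, hfi, hfn, c, hfc⟩
    choose t ht n' hn' hy using Bc.split_B2
    refine ⟨fun h0 => hf0 (ext_points fun x => ?_), fun x z => ?_, fun y => c ⟨(t y)⁻¹, Bc.Ts.inv_mem (ht y)⟩,
      fun x y => ?_⟩
    · have h1 := congrArg (ev x⁻¹) h0
      rw [ev_invF, _root_.inv_inv, map_zero] at h1
      rw [h1, map_zero]
    · rw [ev_invF, ev_invF, _root_.mul_inv_rev, hfn _ (Bc.Ns.inv_mem ((Bc.mem_Ns _).mpr ⟨z, rfl⟩))]
    · rw [ev_invF, ev_invF, hy, _root_.mul_inv_rev, _root_.mul_inv_rev, _root_.mul_assoc,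
        hfn _ (Bc.Ns.inv_mem (hn' y))]
      exact hfc ⟨(t y)⁻¹, Bc.Ts.inv_mem (ht y)⟩ x⁻¹
  have hwt : ∀ f ∈ Φ, ∃ m, Semi Bc.iB2 (θ m) (invF f) := fun f hf => by
    obtain ⟨h0, hi, c, hc⟩ := hinvF f hf
    obtain ⟨m, hm⟩ := hmono c _ h0 hi hc
    refine ⟨fun i => m i, fun x y => ?_⟩
    rw [hc, hm]
    simp [θ]
  have hprop : ∀ f ∈ Φ, ∀ g ∈ Φ, ∀ m, Semi Bc.iB2 (θ m) (invF f) → Semi Bc.iB2 (θ m) (invF g) →
      ∃ r : k, f = r • g := by
    intro f hf g hg m hfm hgm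
    obtain ⟨hf0, hfi, hfn, cf, hcf⟩ := hf
    obtain ⟨hg0, hgi, hgn, cg, hcg⟩ := hg
    have hcc : cf = cg := funext fun t => by
      obtain ⟨y, hy⟩ := Bc.Ts_B2 _ (Bc.Ts.inv_mem t.2)
      have key : ∀ (c : Bc.Ts → k) (φ : Γ(G.left, ⊤)), φ ≠ 0 → Le c φ → Semi Bc.iB2 (θ m) (invF φ) → c t = θ m y := by
        intro c φ hφ0 hφc hφm
        obtain ⟨x, hx⟩ : ∃ x : P G, ev x φ ≠ 0 := by
          by_contra h
          push Not at h
          exact hφ0 (ext_points fun x => by rw [h x, map_zero])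
        refine mul_right_cancel₀ hx ?_
        have h1 := hφm x⁻¹ y
        rw [ev_invF, ev_invF, _root_.mul_inv_rev, _root_.inv_inv, hy, _root_.inv_inv, hφc] at h1
        exact h1
      rw [key cf f hf0 hcf hfm, key cg g hg0 hcg hgm]
    refine ⟨ev Bc.a0 f / ev Bc.a0 g, sub_eq_zero.mp (hzero _ fun x hx => ?_)⟩
    obtain ⟨t, ht⟩ := hform x hx
    rw [map_sub, Algebra.smul_def, map_mul, ev_const, ht cf f hfi hfn hcf, ht cg g hgi hgn hcg, hcc]
    field_simp [ha0 cg g hg0 hgi hgn hcg]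
    ring
  let X : AddSubgroup (Fin n → ℤ) :=
    { carrier := {m | ∃ f ∈ Φ, IsUnit f ∧ Semi Bc.iB2 (θ m) (invF f)}
      zero_mem' := ⟨1, hone, isUnit_one, fun x y => by
        rw [map_one, map_one, map_one, _root_.mul_one, show θ 0 y = 1 by simp [θ]]⟩
      add_mem' := by
        rintro m m' ⟨f, hf, hfu, hfm⟩ ⟨g, hg, hgu, hgm⟩
        refine ⟨f * g, hmulΦ f hf g hg, hfu.mul hgu, ?_⟩
        rw [map_mul, hθadd]
        exact hfm.mul hgm
      neg_mem' := by
        rintro m ⟨f, hf, hfu, hfm⟩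
        obtain ⟨g, hfg⟩ := hfu.exists_right_inv
        have hgΦ := hdiv 1 hone f hf g hfg.symm
        refine ⟨g, hgΦ, IsUnit.of_mul_eq_one f (by rw [mul_comm, hfg]), fun x y => ?_⟩
        have h1 := congrArg (fun q => ev (x * (y ≫ Bc.iB2)) (invF q)) hfg
        have h2 := congrArg (fun q => ev x (invF q)) hfg
        simp only [map_mul, map_one] at h1 h2
        rw [hfm] at h1
        have hθ : θ (-m) y * θ m y = 1 := by
          rw [← Pi.mul_apply, ← hθadd, neg_add_cancel]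
          simp [θ]
        calc ev (x * (y ≫ Bc.iB2)) (invF g)
            = ev (x * (y ≫ Bc.iB2)) (invF g) * (θ (-m) y * θ m y) * (ev x (invF f) * ev x (invF g)) := by
              rw [hθ, h2, _root_.mul_one, _root_.mul_one]
          _ = θ (-m) y * ev x (invF g) * (θ m y * ev x (invF f) * ev (x * (y ≫ Bc.iB2)) (invF g)) := by ring
          _ = θ (-m) y * ev x (invF g) := by rw [h1, _root_.mul_one] }
  obtain ⟨gens, hgens⟩ : (AddSubgroup.toIntSubmodule X).FG :=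
    (isNoetherian_def.mp (isNoetherian_of_isNoetherianRing_of_finite ℤ (Fin n → ℤ))) _
  have hgX : ∀ m ∈ gens, m ∈ X := fun m hm => by
    have h := hgens.le (Submodule.subset_span (Finset.mem_coe.mpr hm))
    exact h
  choose gp hgp1 hgp2 hgp3 using hgX
  choose gn hgn1 hgn2 hgn3 using fun m (hm : m ∈ gens) =>
    (X.neg_mem (show m ∈ X from hgens.le (Submodule.subset_span (Finset.mem_coe.mpr hm))) : -m ∈ X)
  let F' : Finset Γ(G.left, ⊤) := F ∪ gens.attach.image (fun m => gp m.1 m.2) ∪ gens.attach.image (fun m => gn m.1 m.2)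
  have hF' : ∀ f ∈ F', f ∈ Φ := by
    intro f hf
    simp only [F', Finset.mem_union, Finset.mem_image] at hf
    rcases hf with (hf | ⟨m, -, rfl⟩) | ⟨m, -, rfl⟩
    · exact hF hf
    · exact hgp1 _ _
    · exact hgn1 _ _
  set S := Algebra.adjoin k (F' : Set Γ(G.left, ⊤))
  have hunit : ∀ m ∈ X, (∃ f ∈ Φ, f ∈ S ∧ Semi Bc.iB2 (θ m) (invF f)) ∧
      ∃ f ∈ Φ, f ∈ S ∧ Semi Bc.iB2 (θ (-m)) (invF f) := by
    intro m hm
    have hm' : m ∈ Submodule.span ℤ (gens : Set (Fin n → ℤ)) := hgens.symm.le hm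
    rw [← Submodule.mem_toAddSubgroup, Submodule.span_int_eq_addSubgroupClosure] at hm'
    clear hm
    induction hm' using AddSubgroup.closure_induction with
    | mem z hz =>
      have hz' := Finset.mem_coe.mp hz
      exact ⟨⟨gp z hz', hgp1 _ _, Algebra.subset_adjoin (Finset.mem_coe.mpr (Finset.mem_union_left _
        (Finset.mem_union_right _ (Finset.mem_image.mpr ⟨⟨z, hz'⟩, Finset.mem_attach _ _, rfl⟩)))), hgp3 _ _⟩,
        ⟨gn z hz', hgn1 _ _, Algebra.subset_adjoin (Finset.mem_coe.mpr (Finset.mem_union_right _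
        (Finset.mem_image.mpr ⟨⟨z, hz'⟩, Finset.mem_attach _ _, rfl⟩))), hgn3 _ _⟩⟩
    | zero =>
      have h1 : Semi Bc.iB2 (θ 0) (invF (1 : Γ(G.left, ⊤))) := fun x y => by
        rw [map_one, map_one, map_one, show θ 0 y = 1 by simp [θ], _root_.mul_one]
      rw [neg_zero]
      exact ⟨⟨1, hone, S.one_mem, h1⟩, ⟨1, hone, S.one_mem, h1⟩⟩
    | add a b _ _ ha hb =>
      obtain ⟨⟨f, hf1, hf2, hf3⟩, ⟨f', hf1', hf2', hf3'⟩⟩ := ha
      obtain ⟨⟨g, hg1, hg2, hg3⟩, ⟨g', hg1', hg2', hg3'⟩⟩ := hb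
      refine ⟨⟨f * g, hmulΦ f hf1 g hg1, S.mul_mem hf2 hg2, ?_⟩, ⟨f' * g', hmulΦ f' hf1' g' hg1', S.mul_mem hf2' hg2', ?_⟩⟩
      · rw [map_mul, hθadd]; exact hf3.mul hg3
      · rw [map_mul, neg_add, hθadd]; exact hf3'.mul hg3'
    | neg a _ ha => exact ⟨ha.2, by rw [neg_neg]; exact ha.1⟩
  have hΦS : ∀ f ∈ Φ, f ∈ S := by
    intro f hf
    obtain ⟨l, hl, w, hw, hwu, rfl⟩ := hgen f hf
    refine S.mul_mem (Subalgebra.list_prod_mem _ fun x hx => Algebra.subset_adjoin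
      (Finset.mem_coe.mpr (Finset.mem_union_left _ (Finset.mem_union_left _ (hl x hx))))) ?_
    obtain ⟨m, hm⟩ := hwt w hw
    obtain ⟨g, hg1, hg2, hg3⟩ := (hunit m ⟨w, hw, hwu, hm⟩).1
    obtain ⟨r, rfl⟩ := hprop w hw g hg1 m hm hg3
    exact S.smul_mem hg2 r
  -- the left action on the invariants
  have hst : ∀ (x : P G), ∀ f ∈ invAlg (G := G) i, act (regularL G) x f ∈ invAlg (G := G) i := fun x f hf => by
    rw [act_regularL]
    exact Inv.ltr i hf _
  let σ := restrictMod (regularL G) regularL_isMult (invAlg (G := G) i) hst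
  have hσ : σ.IsMult := restrictMod_isMult (regularL G) regularL_isMult (invAlg (G := G) i) hst
  have hmem : ∀ f : invAlg (G := G) i, f ∈ σ.fixedUnder (Bc.u2 ≫ Bc.iB2) ↔ Ln (f : Γ(G.left, ⊤)) := fun f => by
    rw [mem_fixed_restrict regularL_isMult _ hst, mem_fixedUnder_iff]
    constructor
    · intro h n' hn' x
      obtain ⟨z, hz⟩ := (Bc.mem_Ns _).mp (Bc.Ns.inv_mem hn')
      have h1 := congrArg (ev x) (h z)
      rwa [hz, act_regularL, _root_.inv_inv, ev_ltr] at h1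
    · intro h z
      refine ext_points fun x => ?_
      rw [act_regularL, ev_ltr, h _ (Bc.Ns.inv_mem ((Bc.mem_Ns _).mpr ⟨z, rfl⟩))]
  haveI : Algebra.FiniteType k (invAlg (G := G) i) := by
    refine finiteType_of_fixed hGrp hB2 hU2 hσ ((Subalgebra.fg_iff_finiteType _).mp ?_)
    refine Subalgebra.fg_of_fg_map _ (invAlg (G := G) i).val Subtype.val_injective ⟨F', le_antisymm ?_ ?_⟩
    · exact Algebra.adjoin_le fun f hf => ⟨⟨f, (hF' f hf).2.1⟩, (hmem ⟨f, (hF' f hf).2.1⟩).mpr (hF' f hf).2.2.1, rfl⟩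
    rintro _ ⟨⟨f, hfi⟩, hf, rfl⟩
    show f ∈ S
    have hfn : Ln f := (hmem ⟨f, hfi⟩).mp hf
    let W : Submodule k Γ(G.left, ⊤) :=
      { carrier := {f | Inv i f ∧ Ln f}
        zero_mem' := ⟨fun x s => by rw [map_zero, map_zero], fun n' _ x => by rw [map_zero, map_zero]⟩
        add_mem' := fun {p q} hp hq => ⟨fun x s => by rw [map_add, map_add, hp.1, hq.1],
          fun n' hn' x => by rw [map_add, map_add, hp.2 n' hn', hq.2 n' hn']⟩
        smul_mem' := fun r p hp => ⟨fun x s => by rw [Algebra.smul_def, map_mul, map_mul, hp.1, ev_const, ev_const],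
          fun n' hn' x => by rw [Algebra.smul_def, map_mul, map_mul, hp.2 n' hn', ev_const, ev_const]⟩ }
    have hWst : ∀ t : Bc.Ts, ∀ v ∈ W, act (regularL G) (t : P G) v ∈ W := fun t v hv => by
      rw [act_regularL]
      refine ⟨Inv.ltr i hv.1 _, fun n' hn' x => ?_⟩
      rw [ev_ltr, ev_ltr]
      obtain ⟨z, rfl⟩ := (Bc.mem_Ns _).mp hn'
      obtain ⟨y, hy⟩ := Bc.Ts_B2 _ (Bc.Ts.inv_mem t.2)
      obtain ⟨z', hz'⟩ := hU2.2.2.1 _ y z
      have h1 : (y ≫ Bc.iB2) * (z ≫ Bc.u2 ≫ Bc.iB2) = (z' ≫ Bc.u2 ≫ Bc.iB2) * (y ≫ Bc.iB2) := by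
        have h2 := congrArg (fun w => w ≫ Bc.iB2) hz'
        simp only [MonObj.mul_comp, GrpObj.inv_comp, Category.assoc] at h2
        first
          | (rw [← h2]; group)
          | (rw [h2]; group)
      rw [← hy, ← _root_.mul_assoc, h1, _root_.mul_assoc, hv.2 _ ((Bc.mem_Ns _).mpr ⟨z', rfl⟩)]
    obtain ⟨m, hm, hmem'⟩ := Submodule.mem_span_finite_of_mem_span (Bc.diag (regularL G) f)
    obtain ⟨r, -, hr⟩ := Submodule.mem_span_finset.mp hmem'
    have hχ : ∀ w : Γ(G.left, ⊤), ∃ χ : Bc.Ts → k, w ∈ m → ∀ s : Bc.Ts, act (regularL G) (s : P G) w = χ s • w :=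
      fun w => by
        by_cases hw : w ∈ m
        · choose χ hχ using fun s : Bc.Ts => hm (Finset.mem_coe.mpr hw) (s : P G) s.2
          exact ⟨χ, fun _ => hχ⟩
        · exact ⟨fun _ => 0, fun h => absurd h hw⟩
    choose χ hχ using hχ
    rw [← hr, ← Finset.sum_fiberwise_of_maps_to (g := χ) (t := m.image χ)
      (fun w hw => Finset.mem_image_of_mem _ hw)]
    refine Subalgebra.sum_mem _ fun χ₀ _ => ?_
    by_cases h0 : (∑ w ∈ m.filter (fun w => χ w = χ₀), r w • w) = 0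
    · rw [h0]; exact S.zero_mem
    have hmemW := eigen_mem (fun s : Bc.Ts => act (regularL G) (s : P G)) W hWst χ χ₀ m (fun w => r w • w)
      (fun w hw s => by rw [map_smul, hχ w hw s, smul_comm]) (by rw [hr]; exact ⟨hfi, hfn⟩)
    refine hΦS _ ⟨h0, hmemW.1, hmemW.2, fun t => χ₀ t⁻¹, fun t x => ?_⟩
    have h1 : act (regularL G) ((t⁻¹ : Bc.Ts) : P G) (∑ w ∈ m.filter (fun w => χ w = χ₀), r w • w) =
        χ₀ t⁻¹ • ∑ w ∈ m.filter (fun w => χ w = χ₀), r w • w := by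
      rw [map_sum, Finset.smul_sum]
      exact Finset.sum_congr rfl fun w hw => by
        rw [map_smul, hχ w (Finset.mem_filter.mp hw).1, (Finset.mem_filter.mp hw).2, smul_comm]
    have h2 := congrArg (ev x) h1
    rw [act_regularL, Subgroup.coe_inv, _root_.inv_inv, ev_ltr, Algebra.smul_def, map_mul, ev_const] at h2
    exact h2
  exact (Subalgebra.fg_iff_finiteType _).mpr this

/-- Invariants of a subgroup containing a maximal unipotent subgroup. -/
theorem fg_invAlg_of_contains_grp (hG : VecGrp.IsReductiveGrp k G) {iB : B ⟶ G}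
    (hB : Red.IsBorelOver k iB) {u : U ⟶ B} (hU : Par.IsUnipotentRadical u) (i : H ⟶ G) [IsMonHom i]
    (f : U ⟶ H) (hf : f ≫ i = u ≫ iB) [Mono i] : (invAlg (G := G) i).FG := by
  obtain ⟨-, -, G₀, _, j, hj1, hj2, hG₀⟩ := hG
  haveI := hj1
  haveI := hj2
  haveI := hG₀.1
  haveI := hG₀.2.1
  haveI := hG₀.2.2.1
  obtain ⟨b, hb, hbB⟩ := exists_borel_open j hB
  obtain ⟨hm, hUa, hUs, hUc, -⟩ := props_of_radical hB hU
  haveI := hm
  haveI := hUa
  haveI := hUs
  haveI := hUc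
  haveI : IsMonHom (f ≫ i) := hf.symm ▸ hm
  haveI : IsMonHom f := Groth.Agent.H1.Classical.CentralizerBorel.isMonHom_of_mono_comp f i
  obtain ⟨hHo, hHc, hHs, hHconn⟩ := identity_props H
  letI := Groth.Agent.H63.GrpIdentity.idGrp H
  haveI := Groth.Agent.H63.GrpIdentity.isMonHom_idHom H
  haveI := hHo
  haveI := hHc
  haveI := hHs
  haveI := hHconn
  haveI : IsAffine (Groth.Agent.H63.GrpIdentity.idObj H).left :=
    isAffine_of_isAffineHom (Groth.Agent.H63.GrpIdentity.idHom H).left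
  obtain ⟨i₀, hi₀, hi₀m⟩ := exists_lift_open j (Groth.Agent.H63.GrpIdentity.idHom H ≫ i)
  haveI := hi₀m
  obtain ⟨f₀, hf₀, -⟩ := exists_lift_open (Groth.Agent.H63.GrpIdentity.idHom H) f
  haveI : IsClosedImmersion j.left := isClosedImmersion_of_open j
  haveI : Mono j := Over.mono_of_mono_left j
  refine ((fg_tfae i j (Groth.Agent.H63.GrpIdentity.idHom H) i₀ hi₀).out 0 2).mpr ?_
  refine fg_invAlg_of_contains hG₀ hbB hU i₀ fun z => ⟨z ≫ f₀, ?_⟩
  rw [← cancel_mono j]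
  simp only [Category.assoc]
  rw [hi₀, reassoc_of% hf₀, hf, hb]

end Groth.Agent.Lib.H1.Grosshans
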