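import Groth.Agent.Lib.H1.Grosshans.Core

/-!
# Algebras and modules with finitely generated invariants under a maximal unipotent subgroup
-/

universe u

open CategoryTheory MonoidalCategory CartesianMonoidalCategory MonObj GrpObj AlgebraicGeometry
open scoped TensorProduct

namespace Groth.Agent.Lib.H1.Grosshans

set_option linter.style.haveILetI false
set_option linter.unusedSectionVars false

open Groth.Agent.Lib.RedPts Groth.Agent.Lib.RedPts.Points
open Groth.Agent.H1.Classical.Scheme' Groth.Agent.H1.Obs Groth.Agent.H1.Obs.UFG Groth.Agent.H1.RInv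

attribute [local instance] baseAlgebra

variable {k : Type u} [Field k] [IsAlgClosed k]

/-- A Borel subgroup lies in every connected open subgroup. -/
theorem exists_borel_open {G G₀ B : Over (Spec (CommRingCat.of k))} [GrpObj G] [GrpObj G₀] [GrpObj B] [IsAffine G.left]
    [Smooth G.hom] [IsAffine G₀.left] [ConnectedSpace G₀.left] (j : G₀ ⟶ G) [IsMonHom j] [IsOpenImmersion j.left]
    {iB : B ⟶ G} (hB : Red.IsBorelOver k iB) :
    ∃ b : B ⟶ G₀, b ≫ j = iB ∧ Red.IsBorelOver k b := by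
  obtain ⟨hm, hcl, hsm, hconn, hsol, hmax⟩ := hB
  haveI := hm
  haveI := hconn
  haveI : IsClosedImmersion j.left := isClosedImmersion_of_open j
  haveI : Mono j := Over.mono_of_mono_left j
  have hsub : Set.range iB.left ⊆ Set.range j.left := by
    refine (isPreconnected_range iB.left.continuous).subset_isClopen
      ⟨j.left.isClosedEmbedding.isClosed_range, j.left.isOpenEmbedding.isOpen_range⟩
      ⟨η[G].left (IsLocalRing.closedPoint k), ⟨η[B].left (IsLocalRing.closedPoint k), ?_⟩,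
        η[G₀].left (IsLocalRing.closedPoint k), ?_⟩
    · exact congrArg (fun φ : 𝟙_ (Over (Spec (CommRingCat.of k))) ⟶ G => φ.left (IsLocalRing.closedPoint k))
        (IsMonHom.one_hom (f := iB))
    · exact congrArg (fun φ : 𝟙_ (Over (Spec (CommRingCat.of k))) ⟶ G => φ.left (IsLocalRing.closedPoint k))
        (IsMonHom.one_hom (f := j))
  let b : B ⟶ G₀ := Over.homMk (IsOpenImmersion.lift j.left iB.left hsub) (by
    rw [← Over.w j, IsOpenImmersion.lift_fac_assoc, Over.w])
  have hb : b ≫ j = iB := Over.OverMorphism.ext (IsOpenImmersion.lift_fac j.left iB.left hsub)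
  haveI : IsMonHom b :=
    { one_hom := by rw [← cancel_mono j, Category.assoc, hb, IsMonHom.one_hom, IsMonHom.one_hom]
      mul_hom := by
        rw [← cancel_mono j, Category.assoc, hb, IsMonHom.mul_hom, Category.assoc, IsMonHom.mul_hom j,
          MonoidalCategory.tensorHom_comp_tensorHom_assoc, hb] }
  haveI : IsClosedImmersion (b.left ≫ j.left) := by
    rw [← Over.comp_left, hb]
    exact hcl
  refine ⟨b, hb, inferInstance, IsClosedImmersion.of_comp b.left j.left, hsm, hconn, hsol,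
    fun B' _ i' _ f hi' hs' hc' hsol' hf => ?_⟩
  haveI := hi'
  exact hmax B' (i' ≫ j) f (by rw [Over.comp_left]; infer_instance) hs' hc' hsol' (by rw [← Category.assoc, hf, hb])

theorem act_pull {G H : Over (Spec (CommRingCat.of k))} [GrpObj G] [GrpObj H] {M : Type u} [AddCommGroup M] [Module k M]
    (ρ : VecGrp.GMod G M) (i : H ⟶ G) [IsMonHom i] (x : P H) (v : M) : act (pullMod ρ i) x v = act ρ (x ≫ i) v := by
  apply (TensorProduct.lid k M).symm.injective
  rw [TensorProduct.lid_symm_apply, TensorProduct.lid_symm_apply, ← act_apply, ← act_apply, toPt_comp]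
  rfl

theorem pullMod_isMult {G H : Over (Spec (CommRingCat.of k))} [GrpObj G] [GrpObj H] {A : Type u} [CommRing A] [Algebra k A]
    {ρ : VecGrp.GMod G A} (hρ : ρ.IsMult) (i : H ⟶ G) [IsMonHom i] : (pullMod ρ i).IsMult := fun B _ _ g => hρ B (g ≫ i)

theorem isAffine_of_reductive {G : Over (Spec (CommRingCat.of k))} [GrpObj G] (hG : VecGrp.IsReductiveGrp k G) :
    IsAffine G.left ∧ Smooth G.hom := ⟨hG.1, hG.2.1⟩

variable {G Bo U : Over (Spec (CommRingCat.of k))} [GrpObj G] [GrpObj Bo] [GrpObj U] [IsAffine G.left] [Smooth G.hom]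
  {iB : Bo ⟶ G} {u : U ⟶ Bo} {A : Type u} [CommRing A] [Algebra k A] {ρ : VecGrp.GMod G A}

theorem mem_fixed_iff (hB : Red.IsBorelOver k iB) (hU : Par.IsUnipotentRadical u) (a : A) :
    a ∈ ρ.fixedUnder (u ≫ iB) ↔ ∀ z : P U, act ρ (z ≫ u ≫ iB) a = a := by
  obtain ⟨-, hA, hS, -, -⟩ := props_of_radical hB hU
  haveI := hA
  haveI := hS
  exact mem_fixedUnder_iff ρ (u ≫ iB) a

/-- An algebra is finite over a stable subalgebra containing its finitely generated invariants. -/
theorem exists_finite_over (hG : VecGrp.IsReductiveGrp k G) (hB : Red.IsBorelOver k iB) (hU : Par.IsUnipotentRadical u)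
    (hρ : ρ.IsMult) (hfg : Algebra.FiniteType k ↥(ρ.fixedSubalgebra hρ (u ≫ iB)))
    (C : Subalgebra k A) (hC : ∀ (x : P G), ∀ c ∈ C, act ρ x c ∈ C) (hUC : ∀ a ∈ ρ.fixedUnder (u ≫ iB), a ∈ C) :
    ∃ s : Finset A, ∀ a, a ∈ Submodule.span C (s : Set A) := by
  classical
  obtain ⟨-, -, G₀, _, j, hj1, hj2, hG₀⟩ := hG
  haveI := hj1
  haveI := hj2
  haveI := hG₀.1
  haveI := hG₀.2.1
  haveI := hG₀.2.2.1
  obtain ⟨b, hb, hbB⟩ := exists_borel_open j hB
  obtain ⟨Bc⟩ := exists_bigCell hG₀ hbB hU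
  have hm : ∀ (z : P U) (a : A), act (pullMod ρ j) (z ≫ u ≫ b) a = act ρ (z ≫ u ≫ iB) a := fun z a => by
    rw [act_pull, Category.assoc, Category.assoc, hb]
  let φ : A →ₐ[k] A := AlgHom.ofLinearMap (act (pullMod ρ j) Bc.a0) (act_one_elt _ (pullMod_isMult hρ j) _)
    (act_mult _ (pullMod_isMult hρ j) _)
  have hφU : ∀ a, a ∈ ρ.fixedUnder (u ≫ iB) → ∀ g ∈ Bc.Us, act (pullMod ρ j) g (φ a) = φ a := by
    intro a ha g hg
    obtain ⟨z, rfl⟩ := (Bc.mem_Us g).mp hg
    show act _ _ (act _ _ a) = act _ _ a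
    rw [← Groth.Agent.H1.Obs.act_mul, inv_mul_cancel_right, Groth.Agent.H1.Obs.act_mul, hm,
      (mem_fixed_iff hB hU a).mp ha z]
  obtain ⟨S, hS⟩ := (Subalgebra.fg_iff_finiteType _).mpr hfg
  have hSfix : ∀ a ∈ S, a ∈ ρ.fixedUnder (u ≫ iB) := fun a ha => by
    have : a ∈ ρ.fixedSubalgebra hρ (u ≫ iB) := hS ▸ Algebra.subset_adjoin (Finset.mem_coe.mpr ha)
    exact this
  refine finite_over (pullMod ρ j) Bc (pullMod_isMult hρ j) (S.image φ)
    (fun a ha => ?_) (fun a ha => ?_) C (fun x c hc => ?_) ?_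
  · obtain ⟨a', ha', rfl⟩ := Finset.mem_image.mp ha
    exact hφU a' (hSfix a' ha')
  · have hφa : a = φ (act (pullMod ρ j) Bc.a0⁻¹ a) := by
      show a = act _ _ (act _ _ a)
      rw [← Groth.Agent.H1.Obs.act_mul, mul_inv_cancel, Groth.Agent.H1.Obs.act_one]
    have h1 : act (pullMod ρ j) Bc.a0⁻¹ a ∈ ρ.fixedSubalgebra hρ (u ≫ iB) :=
      (mem_fixed_iff hB hU _).mpr fun z => by
        rw [← hm]
        have h2 := ha _ ((Bc.mem_Us _).mpr ⟨z, rfl⟩)
        calc act (pullMod ρ j) (z ≫ u ≫ b) (act (pullMod ρ j) Bc.a0⁻¹ a)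
            = act (pullMod ρ j) Bc.a0⁻¹ (act (pullMod ρ j) (Bc.a0 * (z ≫ u ≫ b) * Bc.a0⁻¹) a) := by
              rw [← Groth.Agent.H1.Obs.act_mul, ← Groth.Agent.H1.Obs.act_mul]; congr 1; group
          _ = _ := by rw [h2]
    rw [hφa, Finset.coe_image, ← AlgHom.map_adjoin, hS]
    exact ⟨_, h1, rfl⟩
  · rw [act_pull]
    exact hC _ c hc
  · intro a ha
    obtain ⟨a', ha', rfl⟩ := Finset.mem_image.mp (Finset.mem_coe.mp ha)
    show act _ _ a' ∈ C
    rw [act_pull]
    exact hC _ a' (hUC a' (hSfix a' ha'))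

/-- The translates of finitely many elements generate a finitely generated stable subalgebra. -/
theorem exists_stable_adjoin (hρ : ρ.IsMult) (S : Finset A) :
    ∃ C : Subalgebra k A, C.FG ∧ (∀ (x : P G), ∀ c ∈ C, act ρ x c ∈ C) ∧ (S : Set A) ⊆ C ∧
      ∀ D : Subalgebra k A, (∀ (x : P G), ∀ c ∈ D, act ρ x c ∈ D) → (S : Set A) ⊆ D → C ≤ D := by
  classical
  choose V hVfin hVmem hVst using fun a : A => exists_finite_stable ρ a
  let W : Submodule k A := Submodule.span k {v | ∃ a ∈ S, ∃ x : P G, v = act ρ x a}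
  haveI hW : FiniteDimensional k W := by
    haveI := hVfin
    have hle : W ≤ ⨆ a : S, V a := Submodule.span_le.mpr fun v ⟨a, ha, x, hv⟩ =>
      Submodule.mem_iSup_of_mem (⟨a, ha⟩ : S) (hv ▸ hVst a x a (hVmem a))
    exact Submodule.finiteDimensional_of_le hle
  obtain ⟨T, hT⟩ := (Module.Finite.iff_fg).mp hW
  refine ⟨Algebra.adjoin k (T : Set A), ⟨T, rfl⟩, fun x c hc => ?_, fun a ha => ?_, fun D hD hSD => ?_⟩
  · let φ : A →ₐ[k] A := AlgHom.ofLinearMap (act ρ x) (act_one_elt ρ hρ x) (act_mult ρ hρ x)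
    have hle : Algebra.adjoin k (T : Set A) ≤ (Algebra.adjoin k (T : Set A)).comap φ := Algebra.adjoin_le fun t ht => by
      have hWx : W ≤ W.comap (act ρ x) := Submodule.span_le.mpr fun v ⟨a, ha, y, hv⟩ =>
        Submodule.subset_span ⟨a, ha, x * y, by rw [hv, Groth.Agent.H1.Obs.act_mul]⟩
      have h1 : act ρ x t ∈ W := hWx (hT ▸ Submodule.subset_span ht)
      rw [← hT] at h1
      exact Algebra.span_le_adjoin k _ h1
    exact hle hc
  · have h1 : a ∈ W := Submodule.subset_span ⟨a, ha, 1, (Groth.Agent.H1.Obs.act_one ρ a).symm⟩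
    rw [← hT] at h1
    exact Algebra.span_le_adjoin k _ h1
  · refine Algebra.adjoin_le fun t ht => ?_
    have h1 : t ∈ W := hT ▸ Submodule.subset_span ht
    refine (Submodule.span_le (p := Subalgebra.toSubmodule D)).mpr ?_ h1
    rintro v ⟨a, ha, x, rfl⟩
    exact hD x a (hSD ha)

/-- An algebra with finitely generated invariants is finitely generated. -/
theorem finiteType_of_fixed (hG : VecGrp.IsReductiveGrp k G) (hB : Red.IsBorelOver k iB) (hU : Par.IsUnipotentRadical u)
    (hρ : ρ.IsMult) (hfg : Algebra.FiniteType k ↥(ρ.fixedSubalgebra hρ (u ≫ iB))) : Algebra.FiniteType k A := by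
  classical
  obtain ⟨S, hS⟩ := (Subalgebra.fg_iff_finiteType _).mpr hfg
  obtain ⟨C, ⟨T, hT⟩, hC, hSC, -⟩ := exists_stable_adjoin hρ S
  obtain ⟨s, hs⟩ := exists_finite_over hG hB hU hρ hfg C hC fun a ha => Algebra.adjoin_le hSC (by rw [hS]; exact ha)
  refine ⟨⟨T ∪ s, eq_top_iff.mpr fun a h' => ?_⟩⟩
  clear h'
  have h := hs a
  induction h using Submodule.span_induction with
  | mem x hx => exact Algebra.subset_adjoin (Finset.mem_coe.mpr (Finset.mem_union_right _ hx))
  | zero => exact Subalgebra.zero_mem _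
  | add p q _ _ hp hq => exact Subalgebra.add_mem _ hp hq
  | smul c p _ hp =>
    rw [Subalgebra.smul_def, smul_eq_mul]
    refine Subalgebra.mul_mem _ ?_ hp
    exact Algebra.adjoin_mono (by simp [Finset.coe_union]) (hT.ge c.2)

end Groth.Agent.Lib.H1.Grosshans
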