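import Groth.Agent.Lib.H1.Grosshans.Triv
import Groth.Agent.Lib.H1.Grosshans.Extra

/-!
# Modules with finitely generated invariants
-/

universe u

open CategoryTheory MonoidalCategory CartesianMonoidalCategory MonObj GrpObj AlgebraicGeometry
open scoped TensorProduct

namespace Groth.Agent.Lib.H1.Grosshans

set_option linter.style.haveILetI false
set_option linter.unusedSectionVars false

open Groth.Agent.H1.Obs

variable {k : Type u} [Field k] [IsAlgClosed k] {G Bo U : Over (Spec (CommRingCat.of k))} [GrpObj G] [GrpObj Bo] [GrpObj U]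
  [IsAffine G.left] [Smooth G.hom] {iB : Bo ⟶ G} {u : U ⟶ Bo}
  {A : Type u} [CommRing A] [Algebra k A] {M : Type u} [AddCommGroup M] [Module A M] [Module k M] [IsScalarTower k A M]

/-- Finite generation of the invariants of a finite module. -/
theorem fixed_fg_of_finite (hG : VecGrp.IsReductiveGrp k G) (hB : Red.IsBorelOver k iB) (hU : Par.IsUnipotentRadical u)
    (thmA : VecGrp.ReductiveInvariantsFG k) [Algebra.FiniteType k A] [Module.Finite A M]
    (ρA : VecGrp.GMod G A) (hρ : ρA.IsMult) (ρM : VecGrp.GMod G M) (hc : VecGrp.GMod.IsCompat ρA ρM) :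
    ∃ s : Finset M, (↑s : Set M) ⊆ ρM.fixedUnder (u ≫ iB) ∧ ρM.fixedUnder (u ≫ iB) ≤
      (Submodule.span ↥(ρA.fixedSubalgebra hρ (u ≫ iB)) (↑s : Set M)).restrictScalars k := by
  classical
  letI : Module Aᵐᵒᵖ M := Module.compHom M ((RingHom.id A).fromOpposite mul_comm)
  haveI : IsCentralScalar A M := ⟨fun _ _ => rfl⟩
  haveI : IsScalarTower k Aᵐᵒᵖ M := ⟨fun c a m => smul_assoc c a.unop m⟩
  obtain ⟨ρR, hR, hmem⟩ := exists_triv ρA hρ ρM hc
  haveI : Algebra.FiniteType k (TrivSqZeroExt A M) := finiteType_triv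
  obtain ⟨s, hs⟩ := (Subalgebra.fg_iff_finiteType _).mpr (finiteType_fixed_radical hG hB hU thmA hR)
  have hsfix : ∀ x ∈ s, x.fst ∈ ρA.fixedUnder (u ≫ iB) ∧ x.snd ∈ ρM.fixedUnder (u ≫ iB) := fun x hx => by
    have : x ∈ ρR.fixedSubalgebra hR (u ≫ iB) := hs ▸ Algebra.subset_adjoin (Finset.mem_coe.mpr hx)
    exact (hmem _ x).mp this
  refine ⟨s.image TrivSqZeroExt.snd, fun m hm => ?_, fun m hm => ?_⟩
  · obtain ⟨x, hx, rfl⟩ := Finset.mem_image.mp (Finset.mem_coe.mp hm)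
    exact (hsfix x hx).2
  set N := Submodule.span ↥(ρA.fixedSubalgebra hρ (u ≫ iB)) (↑(s.image TrivSqZeroExt.snd) : Set M)
  have key : ∀ x ∈ Algebra.adjoin k (↑s : Set (TrivSqZeroExt A M)),
      x.fst ∈ ρA.fixedSubalgebra hρ (u ≫ iB) ∧ x.snd ∈ N := by
    intro x hx
    induction hx using Algebra.adjoin_induction with
    | mem x hx =>
      exact ⟨(hsfix x hx).1, Submodule.subset_span (Finset.mem_coe.mpr (Finset.mem_image_of_mem _ hx))⟩
    | algebraMap c =>
      exact ⟨Subalgebra.algebraMap_mem _ c, by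
        rw [show (algebraMap k (TrivSqZeroExt A M) c).snd = 0 from rfl]; exact N.zero_mem⟩
    | add x y _ _ hx hy => exact ⟨add_mem hx.1 hy.1, add_mem hx.2 hy.2⟩
    | mul x y _ _ hx hy =>
      refine ⟨mul_mem hx.1 hy.1, ?_⟩
      rw [TrivSqZeroExt.snd_mul]
      exact add_mem (N.smul_mem (⟨_, hx.1⟩ : ρA.fixedSubalgebra hρ (u ≫ iB)) hy.2)
        (N.smul_mem (⟨_, hy.1⟩ : ρA.fixedSubalgebra hρ (u ≫ iB)) hx.2)
  have h0 : (TrivSqZeroExt.inr m : (TrivSqZeroExt A M)) ∈ ρR.fixedSubalgebra hR (u ≫ iB) :=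
    (hmem _ _).mpr ⟨by simp, by simpa using hm⟩
  have h1 := (key _ (hs.ge h0)).2
  rwa [TrivSqZeroExt.snd_inr] at h1

/-- Finite generation of a module with finitely generated invariants. -/
theorem finite_of_fixed_fg (hG : VecGrp.IsReductiveGrp k G) (hB : Red.IsBorelOver k iB) (hU : Par.IsUnipotentRadical u)
    (ρA : VecGrp.GMod G A) (hρ : ρA.IsMult) (hfg : Algebra.FiniteType k ↥(ρA.fixedSubalgebra hρ (u ≫ iB)))
    (ρM : VecGrp.GMod G M) (hc : VecGrp.GMod.IsCompat ρA ρM) (s : Finset M)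
    (hs : (↑s : Set M) ⊆ ρM.fixedUnder (u ≫ iB))
    (hle : ρM.fixedUnder (u ≫ iB) ≤ (Submodule.span ↥(ρA.fixedSubalgebra hρ (u ≫ iB)) (↑s : Set M)).restrictScalars k) :
    Module.Finite A M := by
  classical
  letI : Module Aᵐᵒᵖ M := Module.compHom M ((RingHom.id A).fromOpposite mul_comm)
  haveI : IsCentralScalar A M := ⟨fun _ _ => rfl⟩
  haveI : IsScalarTower k Aᵐᵒᵖ M := ⟨fun c a m => smul_assoc c a.unop m⟩
  obtain ⟨ρR, hR, hmem⟩ := exists_triv ρA hρ ρM hc
  obtain ⟨sA, hsA⟩ := (Subalgebra.fg_iff_finiteType _).mpr hfg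
  refine finite_of_triv (finiteType_of_fixed hG hB hU hR ((Subalgebra.fg_iff_finiteType _).mp
    ⟨sA.image TrivSqZeroExt.inl ∪ s.image TrivSqZeroExt.inr, le_antisymm (Algebra.adjoin_le fun x hx => ?_) ?_⟩))
  · simp only [Finset.coe_union, Finset.coe_image, Set.mem_union, Set.mem_image] at hx
    rcases hx with ⟨a, ha, rfl⟩ | ⟨m, hm, rfl⟩
    · refine (hmem _ _).mpr ⟨?_, by simp⟩
      have : a ∈ ρA.fixedSubalgebra hρ (u ≫ iB) := hsA ▸ Algebra.subset_adjoin ha
      simpa using (show a ∈ ρA.fixedUnder (u ≫ iB) from this)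
    · exact (hmem _ _).mpr ⟨by simp, by simpa using hs hm⟩
  intro x hx
  obtain ⟨h1, h2⟩ := (hmem _ x).mp hx
  set S := Algebra.adjoin k (↑(sA.image TrivSqZeroExt.inl ∪ s.image TrivSqZeroExt.inr) : Set (TrivSqZeroExt A M))
  have hl : ∀ a ∈ ρA.fixedSubalgebra hρ (u ≫ iB), TrivSqZeroExt.inl a ∈ S := fun a ha => by
    rw [← hsA] at ha
    induction ha using Algebra.adjoin_induction with
    | mem x hx => exact Algebra.subset_adjoin (Finset.mem_coe.mpr (Finset.mem_union_left _ (Finset.mem_image_of_mem _ hx)))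
    | algebraMap c => exact S.algebraMap_mem c
    | add x y _ _ hx hy => rw [TrivSqZeroExt.inl_add]; exact S.add_mem hx hy
    | mul x y _ _ hx hy => rw [TrivSqZeroExt.inl_mul]; exact S.mul_mem hx hy
  rw [← TrivSqZeroExt.inl_fst_add_inr_snd_eq x]
  refine S.add_mem (hl _ h1) ?_
  have h3 := hle h2
  rw [Submodule.restrictScalars_mem] at h3
  clear h2
  generalize x.snd = m at h3 ⊢
  induction h3 using Submodule.span_induction with
  | mem m hm => exact Algebra.subset_adjoin (Finset.mem_coe.mpr (Finset.mem_union_right _ (Finset.mem_image_of_mem _ hm)))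
  | zero => simp [S.zero_mem]
  | add m m' _ _ h h' => rw [TrivSqZeroExt.inr_add]; exact S.add_mem h h'
  | smul a m _ h =>
    rw [Subalgebra.smul_def, ← TrivSqZeroExt.inl_mul_inr]
    exact S.mul_mem (hl a a.2) h

end Groth.Agent.Lib.H1.Grosshans
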