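import Groth.Agent.Lib.H1.Grosshans.Cochar
import Groth.Agent.H1.Obs.UFG.Cell
import Groth.Agent.H1.Classical.ChevalleyScheme
import Groth.Agent.H1.Classical.RadImage
import Groth.Agent.H1.Classical.Torus.WeylFinite
import Groth.Agent.H1.Classical.Torus.CartanDense
import Groth.Agent.H1.Classical.Torus.SubTorus

/-!
# The triangular decomposition of a group without unipotent radical

On rational points: for a one-parameter subgroup with the centraliser of a maximal torus `T`, a Borel subgroup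
containing the non-negative part meets the negative part trivially.
-/

universe u w

namespace Groth.Agent.Lib.H1.Grosshans

set_option linter.style.haveILetI false
set_option linter.unusedSectionVars false

open LaurentPolynomial TensorProduct WithConv Module CategoryTheory AlgebraicGeometry
open Groth.Agent.H1.Classical Groth.Agent.H1.Classical.Torus Groth.Agent.H1.Classical.Torus.Centraliser
open Groth.Agent.H1.Classical.Torus.MaxTorus Groth.Agent.H1.Classical.Complete
open Groth.Agent.Lib.Dyn85 Groth.Agent.Lib.Dyn85.GmAct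
open Groth.Agent.H1.Obs.UFG

section General

variable {k : Type u} [Field k] [IsAlgClosed k] {Γ : Type*} [Group Γ] {D : Alg k Γ}

/-- A conjugate of a Borel subgroup is a Borel subgroup. -/
theorem isBor_conj {B : Subgroup Γ} (hB : IsBor D B) (g : Γ) : IsBor D (B.map (MulAut.conj g).toMonoidHom) := by
  refine ⟨?_, Image.sirr_conj hB.irr g, Image.solvable_conj hB.solv g, fun S hS hS' => ?_,
    SubTorus.complete_conj hB.comp (a := g⁻¹) fun b hb => mem_map.mpr (by
      rwa [_root_.inv_inv, show g⁻¹ * (g * b * g⁻¹) * g = b by group])⟩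
  · have : ((B.map (MulAut.conj g).toMonoidHom : Subgroup Γ) : Set Γ) = (fun x => g⁻¹ * x * g⁻¹⁻¹) ⁻¹' B := by
      ext x
      rw [SetLike.mem_coe, mem_map, Set.mem_preimage, _root_.inv_inv]
      rfl
    rw [this]
    exact Alg.IsCl.preimage D hB.cl _ _ (D.cTrans_apply g⁻¹)
  · obtain ⟨a, ha⟩ := hB.abs S hS hS'
    refine ⟨a * g⁻¹, fun s hs => mem_map.mpr ?_⟩
    rw [show g⁻¹ * ((a * g⁻¹)⁻¹ * s * (a * g⁻¹)) * g = a⁻¹ * s * a by group]
    exact ha s hs

theorem conj_eq_of {t a p q : Γ} (h : p * a * p⁻¹ = (p * q) * a * (p * q)⁻¹) (ht : t = a) : t * q = q * t := by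
  subst ht
  have h2 : q * t * q⁻¹ = t := by
    calc q * t * q⁻¹ = p⁻¹ * ((p * q) * t * (p * q)⁻¹) * p := by group
      _ = p⁻¹ * (p * t * p⁻¹) * p := by rw [h]
      _ = t := by group
  exact (mul_inv_eq_iff_eq_mul.mp h2).symm

theorem conj_transfer (μ n g : Γ) :
    μ * (n⁻¹ * g * n) * μ⁻¹ = n⁻¹ * (n * μ * n⁻¹ * g * (n * μ * n⁻¹)⁻¹) * n := by group

end General

variable {k : Type u} [Field k] [IsAlgClosed k] {A : Type u} [CommRing A] [HopfAlgebra k A] [Algebra.FiniteType k A]
  [IsDomain A] {W : Type u} [AddCommGroup W] [Module k W] [FiniteDimensional k W]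
  {σ : Representation k (HopfPts.Pt k A) W}

section Curve

/-- The value of the orbit of a point at a unit. -/
theorem eval_pt (lam : A →ₐc[k] k[T;T⁻¹]) (g : HopfPts.Pt k A) (f : A) (x : kˣ) :
    (conj lam x g).ofConv f = evR (k := k) (AlgHom.id k k) x ((ofLam lam).pt k g f) := by
  have hT : Units.map (evR (k := k) (AlgHom.id k k) x : k[T;T⁻¹] →* k) (Tu k) = x := by
    ext1; simp [Tu, LaurentPolynomial.T, -LaurentPolynomial.single_eq_C_mul_T]
  have h1 : post (evR (k := k) (AlgHom.id k k) x) ((ofLam lam).pt k g) = conj lam x g := by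
    rw [ofLam_pt, post_conj, hT]
    congr 1
    exact pt_ext fun z => by simp [← single_eq_C, -LaurentPolynomial.single_eq_C_mul_T]
  rw [← h1]
  rfl

/-- A contracted orbit together with the identity is irreducible. -/
theorem sirr_curve (lam : A →ₐc[k] k[T;T⁻¹]) (g : HopfPts.Pt k A)
    (h0 : ∀ f, g.ofConv ((ofLam lam).π 0 f) = Coalgebra.counit (R := k) f) :
    (HopfPts.D k A).SIrr (insert 1 (Set.range fun x : kˣ => Dyn85.conj lam x g)) := by
  rintro ⟨_, a, rfl⟩ ⟨_, b, rfl⟩ hab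
  have key : ∀ c : A, ((ofLam lam).pt k g c = 0) →
      ∀ p ∈ insert 1 (Set.range fun x : kˣ => Dyn85.conj lam x g), (p : HopfPts.Pt k A).ofConv c = 0 := by
    rintro c hc p (rfl | ⟨x, rfl⟩)
    · show (1 : WithConv (A →ₐ[k] k)).ofConv c = 0
      rw [AlgHom.convOne_apply]
      have h := h0 c
      rw [← GmAct.coeff_pt, hc] at h
      simpa using h.symm
    · show (conj lam x g).ofConv c = 0
      rw [eval_pt, hc, map_zero]
  have hprod : (ofLam lam).pt k g a * (ofLam lam).pt k g b = 0 := by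
    rw [← map_mul]
    refine laurent_ext fun x => ?_
    rw [map_zero, ← eval_pt, map_mul]
    exact hab _ (Or.inr ⟨x, rfl⟩)
  rcases mul_eq_zero.mp hprod with h | h
  · exact Or.inl (key a h)
  · exact Or.inr (key b h)

/-- Coefficientwise inversion of orbits. -/
theorem π_of_conj_inv (lam : A →ₐc[k] k[T;T⁻¹]) (n h h' : HopfPts.Pt k A)
    (hx : ∀ x : kˣ, conj lam x h' = n⁻¹ * conj lam x⁻¹ h * n) (f : A) (j : ℤ) :
    h'.ofConv ((ofLam lam).π j f) =
      h.ofConv ((ofLam lam).π (-j) (HopfPts.lcon n⁻¹ (HopfPts.rcon n f))) := by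
  classical
  set f' := HopfPts.lcon n⁻¹ (HopfPts.rcon n f)
  have hf' : ∀ p : HopfPts.Pt k A, p.ofConv f' = (n⁻¹ * p * n).ofConv f := fun p => by
    rw [HopfPts.apply_lcon, HopfPts.apply_rcon]
  have key : (ofLam lam).pt k h' f = AddMonoidAlgebra.domCongr k k (AddEquiv.neg ℤ) ((ofLam lam).pt k h f') := by
    refine laurent_ext fun x => ?_
    rw [← eval_pt, hx, ← hf', eval_pt]
    generalize (ofLam lam).pt k h f' = L
    induction L using AddMonoidAlgebra.induction_linear with
    | zero => simp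
    | add p q hp hq => simp only [map_add, hp, hq]
    | single m c =>
      rw [AddMonoidAlgebra.domCongr_single, evR_single, evR_single]
      simp
  rw [← GmAct.coeff_pt, key, ← GmAct.coeff_pt]
  generalize (ofLam lam).pt k h f' = L
  induction L using AddMonoidAlgebra.induction_linear with
  | zero => simp
  | add p q hp hq => simp only [map_add, AddMonoidAlgebra.coeff_add, Finsupp.add_apply, hp, hq]
  | single m c =>
    rw [AddMonoidAlgebra.domCongr_single, AddMonoidAlgebra.coeff_single, AddMonoidAlgebra.coeff_single,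
      Finsupp.single_apply, Finsupp.single_apply]
    congr 1
    exact propext (by simp [neg_eq_iff_eq_neg])

theorem counit_conjFn (n : HopfPts.Pt k A) (f : A) :
    Coalgebra.counit (R := k) (HopfPts.lcon n⁻¹ (HopfPts.rcon n f)) = Coalgebra.counit (R := k) f := by
  have h : (1 : HopfPts.Pt k A).ofConv (HopfPts.lcon n⁻¹ (HopfPts.rcon n f)) = (1 : HopfPts.Pt k A).ofConv f := by
    rw [HopfPts.apply_lcon, HopfPts.apply_rcon, mul_one, inv_mul_cancel]
  simpa [AlgHom.convOne_apply] using h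

theorem mem_U_of_neg (lam : A →ₐc[k] k[T;T⁻¹]) (n h h' : HopfPts.Pt k A) (hN : h ∈ (ofLam lam).neg.U k)
    (hx : ∀ x : kˣ, conj lam x h' = n⁻¹ * conj lam x⁻¹ h * n) : h' ∈ (ofLam lam).U k := by
  obtain ⟨hP, h0⟩ := (GmAct.mem_U_iff _).mp hN
  refine (GmAct.mem_U_iff _).mpr ⟨(GmAct.mem_P_iff _).mpr fun m hm f => ?_, fun f => ?_⟩
  · show h'.ofConv _ = 0
    rw [π_of_conj_inv lam n h h' hx]
    have := (GmAct.mem_P_iff _).mp hP m hm (HopfPts.lcon n⁻¹ (HopfPts.rcon n f))
    rwa [GmAct.neg_π] at this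
  · show h'.ofConv _ = _
    rw [π_of_conj_inv lam n h h' hx, neg_zero]
    have := h0 (HopfPts.lcon n⁻¹ (HopfPts.rcon n f))
    rw [GmAct.neg_π, neg_zero] at this
    rw [← counit_conjFn n f]
    exact this

theorem mem_neg_U_of (lam : A →ₐc[k] k[T;T⁻¹]) (n h h' : HopfPts.Pt k A) (hU : h ∈ (ofLam lam).U k)
    (hx : ∀ x : kˣ, conj lam x h' = n⁻¹ * conj lam x⁻¹ h * n) : h' ∈ (ofLam lam).neg.U k := by
  obtain ⟨hP, h0⟩ := (GmAct.mem_U_iff _).mp hU
  refine (GmAct.mem_U_iff _).mpr ⟨(GmAct.mem_P_iff _).mpr fun m hm f => ?_, fun f => ?_⟩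
  · show h'.ofConv _ = 0
    rw [GmAct.neg_π, π_of_conj_inv lam n h h' hx, neg_neg]
    exact (GmAct.mem_P_iff _).mp hP m hm _
  · show h'.ofConv _ = _
    rw [GmAct.neg_π, neg_zero, π_of_conj_inv lam n h h' hx, neg_zero, ← counit_conjFn n f]
    exact h0 _

end Curve

variable {d : ℕ} {e : Basis (Fin d) k W} {a : Fin d → ℤ} {lam : A →ₐc[k] k[T;T⁻¹]}

theorem repr_diag {g : HopfPts.Pt k A} {c : Fin d → k} (hc : ∀ l, σ g (e l) = c l • e l) (v : W) (i : Fin d) :
    e.repr (σ g v) i = c i * e.repr v i := by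
  conv_lhs => rw [← e.sum_repr v, map_sum, map_sum, Finsupp.finsetSum_apply]
  rw [Finset.sum_eq_single i]
  · rw [map_smul, hc, map_smul, map_smul, Basis.repr_self, Finsupp.smul_apply, Finsupp.smul_apply,
      Finsupp.single_eq_same, smul_eq_mul, smul_eq_mul]
    ring
  · intro l _ hl
    rw [map_smul, hc, map_smul, map_smul, Basis.repr_self, Finsupp.smul_apply, Finsupp.smul_apply,
      Finsupp.single_eq_of_ne (Ne.symm hl), smul_zero, smul_zero]
  · exact fun h => absurd (Finset.mem_univ i) h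

theorem zpow_inj {p q : ℤ} (h : ∀ x : kˣ, (x : k) ^ p = (x : k) ^ q) : p = q := by
  by_contra hne
  obtain ⟨x, hx⟩ := Solv.exists_zpow_ne (K := k) hne
  exact hx (h x)

theorem zpow_mul_inj {M : ℕ} (hM : M ≠ 0) {p q : ℤ} (h : ∀ x : kˣ, ((x : k) ^ p) ^ M = ((x : k) ^ q) ^ M) : p = q := by
  have h1 : p * M = q * M := zpow_inj (k := k) fun x => by
    rw [zpow_mul, zpow_mul, zpow_natCast, zpow_natCast]; exact h x
  exact mul_right_cancel₀ (Int.natCast_ne_zero.mpr hM) h1

/-- Unipotence of the elements raising the weights. -/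
theorem nilp_of_lvl {M : Module.End k W} (h : Lvl e a 1 M) : IsNilpotent M := by
  classical
  obtain ⟨N, hN⟩ : ∃ N : ℕ, ∀ i l, a i < a l + (N : ℕ) := by
    refine ⟨(∑ i, |a i|).toNat * 2 + 1, fun i l => ?_⟩
    have h1 := Finset.single_le_sum (f := fun i => |a i|) (fun i _ => abs_nonneg _) (Finset.mem_univ i)
    have h2 := Finset.single_le_sum (f := fun i => |a i|) (fun i _ => abs_nonneg _) (Finset.mem_univ l)
    have h3 := le_abs_self (a i)
    have h4 := neg_abs_le (a l)
    omega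
  have hpow : ∀ m : ℕ, Lvl e a (m : ℤ) (M ^ m) := fun m => by
    induction m with
    | zero =>
      intro i l hil
      rw [pow_zero, End.one_apply, Basis.repr_self, Finsupp.single_apply, if_neg]
      rintro rfl
      simp at hil
    | succ m ih => rw [pow_succ, Nat.cast_succ]; exact ih.mul e a h
  exact ⟨N, e.ext fun l => e.repr.injective (Finsupp.ext fun i => by
    rw [LinearMap.zero_apply, map_zero, Finsupp.zero_apply]
    exact hpow N i l (hN i l))⟩

set_option maxHeartbeats 4000000 in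
/-- A Borel subgroup containing the torus and the positive part meets the negative part trivially. -/
theorem inter_eq_bot (hσ : GenRep.Gen (HopfPts.D k A) σ)
    (hR : ∀ C : Subgroup (HopfPts.Pt k A), (HopfPts.D k A).IsCl C → (HopfPts.D k A).SIrr C → C.Normal →
      Group.IsSolvable C → (∀ c ∈ C, IsNilpotent (σ c - 1)) → C = ⊥)
    {T : Subgroup (HopfPts.Pt k A)} (hT : IsMax (HopfPts.D k A) T)
    {B : Subgroup (HopfPts.Pt k A)} (hB : IsBor (HopfPts.D k A) B) (hTB : T ≤ B)
    (hlam : ∀ (x : kˣ) i, σ (lamPt (R := k) lam x) (e i) = ((x : k) ^ a i) • e i)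
    (hTd : ∀ t ∈ T, ∀ i, ∃ c : k, σ t (e i) = c • e i) (hmem : ∀ x : kˣ, lamPt (R := k) lam x ∈ T)
    (hcent : ∀ g : HopfPts.Pt k A, (∀ x : kˣ, lamPt (R := k) lam x * g = g * lamPt (R := k) lam x) →
      g ∈ Subgroup.centralizer (T : Set (HopfPts.Pt k A)))
    {a' : Fin d → ℤ} (ha' : ∀ i l, a i = a l → a' i = a' l)
    {N : Subgroup (HopfPts.Pt k A)} (hNcl : (HopfPts.D k A).IsCl N)
    (hNT : ∀ t ∈ T, ∀ g ∈ N, t * g * t⁻¹ ∈ N) (hlvl : N ≤ lvlGroup σ e a' 1)
    (hcurve : ∀ g ∈ N, (HopfPts.D k A).SIrr (insert 1 (Set.range fun x : kˣ => Dyn85.conj lam x g)))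
    (htr : ∀ n h h' : HopfPts.Pt k A, h ∈ N → (∀ x : kˣ, conj lam x h' = n⁻¹ * conj lam x⁻¹ h * n) → h' ∈ B) :
    B ⊓ N = ⊥ := by
  classical
  set Γ := HopfPts.Pt k A
  set DA := HopfPts.D k A
  have hirr : DA.SIrr Set.univ := HopfPts.sirr_univ
  have hmul : HasMul DA := Scheme'.hasMul_pts
  by_contra hne
  -- a minimal closed subgroup stable under the torus
  let Cand : Set (Subgroup Γ) := {K | DA.IsCl K ∧ K ≤ B ⊓ N ∧ K ≠ ⊥ ∧ ∀ t ∈ T, ∀ g ∈ K, t * g * t⁻¹ ∈ K}
  have hBN : (B ⊓ N : Subgroup Γ) ∈ Cand := ⟨DA.isCl_inter hB.cl hNcl, le_rfl, hne, fun t ht g hg =>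
    ⟨B.mul_mem (B.mul_mem (hTB ht) hg.1) (B.inv_mem (hTB ht)), hNT t ht g hg.2⟩⟩
  haveI := DA.isNoetherianRing
  obtain ⟨_, ⟨K, hK, rfl⟩, hKmax⟩ := set_has_maximal_iff_noetherian.mpr (inferInstance : IsNoetherian DA.R DA.R)
    ((fun K : Subgroup Γ => DA.vI (K : Set Γ)) '' Cand) ⟨_, _, hBN, rfl⟩
  obtain ⟨hKcl, hKle, hKne, hKT⟩ := hK
  have hmin : ∀ K' ∈ Cand, K' ≤ K → K ≤ K' := fun K' hK' hle g hg => by
    have h1 : DA.vI (K : Set Γ) ≤ DA.vI (K' : Set Γ) := DA.vI_anti hle
    have h2 : DA.vI (K' : Set Γ) = DA.vI (K : Set Γ) := by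
      by_contra hn
      exact hKmax _ ⟨K', hK', rfl⟩ (lt_of_le_of_ne h1 (Ne.symm hn))
    exact hK'.1 fun f hf => (h2 ▸ hf : f ∈ DA.vI (K : Set Γ)) g hg
  have hKirr : DA.SIrr K := by
    obtain ⟨C, hCle, hCcl, hCirr, hCmax, -⟩ := RadImage.exists_component_le (D := DA) K hKcl
    have hmemC : ∀ g ∈ K, g ∈ C := by
      intro g hg
      have hg1 := hCmax _ (hcurve g (hKle hg).2) (Or.inl rfl) (by
        rintro _ (rfl | ⟨x, rfl⟩)
        · exact K.one_mem
        · exact hKT _ (hmem x) g hg) (Or.inr ⟨1, rfl⟩)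
      simpa [Dyn85.conj, lamPt_one] using hg1
    rwa [le_antisymm hCle hmemC] at hCirr
  -- the leading coefficient
  have hlvl' : ∀ g ∈ K, g ∈ lvlGroup σ e a' 1 := fun g hg => hlvl (hKle hg).2
  obtain ⟨g₀, hg₀, hg₀1⟩ : ∃ g ∈ K, g ≠ 1 := by
    by_contra h
    push Not at h
    exact hKne (eq_bot_iff.mpr fun g hg => (Subgroup.mem_bot).mpr (h g hg))
  obtain ⟨j, hj1, hjK, hjn⟩ : ∃ j : ℕ, 1 ≤ j ∧ K ≤ lvlGroup σ e a' j ∧ ¬ K ≤ lvlGroup σ e a' (j + 1) := by
    by_contra h
    push Not at h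
    have hall : ∀ j : ℕ, 1 ≤ j → K ≤ lvlGroup σ e a' j := fun j hj =>
      Nat.le_induction (m := 1) (P := fun j _ => K ≤ lvlGroup σ e a' j) hlvl' (fun m hm ih => h m hm ih) j hj
    obtain ⟨N₀, hN₀⟩ : ∃ N₀ : ℕ, ∀ i l, a' i < a' l + (N₀ + 1 : ℕ) := by
      refine ⟨(∑ i, |a' i|).toNat * 2, fun i l => ?_⟩
      have h1 := Finset.single_le_sum (f := fun i => |a' i|) (fun i _ => abs_nonneg _) (Finset.mem_univ i)
      have h2 := Finset.single_le_sum (f := fun i => |a' i|) (fun i _ => abs_nonneg _) (Finset.mem_univ l)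
      have h3 := le_abs_self (a' i)
      have h4 := neg_abs_le (a' l)
      omega
    refine hg₀1 (hσ.faith ?_)
    rw [map_one, ← sub_eq_zero]
    exact e.ext fun l => e.repr.injective (Finsupp.ext fun i => by
      rw [LinearMap.zero_apply, map_zero, Finsupp.zero_apply]
      exact (hall (N₀ + 1) (by omega) hg₀).1 i l (hN₀ i l))
  obtain ⟨g₁, hg₁, i, l, hil, hne1⟩ : ∃ g ∈ K, ∃ i l, a' i < a' l + (j + 1 : ℕ) ∧
      e.repr ((σ g - 1) (e l)) i ≠ 0 := by
    by_contra h
    push Not at h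
    exact hjn fun g hg => ⟨fun i l hil => h g hg i l hil, fun i l hil => h g⁻¹ (K.inv_mem hg) i l hil⟩
  have hail : a' i = a' l + j := by
    have := (hjK hg₁).1 i l
    by_contra hh
    exact hne1 (this (by omega))
  have haij : a i ≠ a l := fun h => by have := ha' i l h; omega
  have hli : l ≠ i := fun h => haij (by rw [h])
  let F : Γ → k := fun g => e.repr (σ g (e l)) i
  have hF' : ∀ g, F g = e.repr ((σ g - 1) (e l)) i := fun g => by
    rw [LinearMap.sub_apply, map_sub, Finsupp.sub_apply, End.one_apply, Basis.repr_self,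
      Finsupp.single_eq_of_ne hli.symm, sub_zero]
  have hFreg : F ∈ DA.R := hσ.reg (e l) (e.coord i)
  have hFadd : ∀ g ∈ K, ∀ g' ∈ K, F (g * g') = F g + F g' := fun g hg g' hg' => by
    rw [hF', hF', hF', show σ (g * g') - 1 = (σ g - 1) * (σ g' - 1) + ((σ g - 1) + (σ g' - 1)) by
      rw [map_mul]; noncomm_ring, LinearMap.add_apply, map_add, Finsupp.add_apply,
      ((hjK hg).1.mul e a' (hjK hg').1) i l (by omega), zero_add, LinearMap.add_apply, map_add, Finsupp.add_apply]
  choose cT hcT using hTd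
  have hcinv : ∀ t (ht : t ∈ T) m, cT t ht m * cT t⁻¹ (T.inv_mem ht) m = 1 := fun t ht m => by
    have h := hcT t⁻¹ (T.inv_mem ht) m
    have h2 := congrArg (σ t) h
    rw [← End.mul_apply, ← map_mul, mul_inv_cancel, map_one, End.one_apply, map_smul, hcT t ht m, smul_smul] at h2
    have h3 := congrArg (fun v => e.repr v m) h2
    simp only [Basis.repr_self, map_smul, Finsupp.smul_apply, Finsupp.single_eq_same, smul_eq_mul, mul_one] at h3
    rw [mul_comm]; exact h3.symm
  let β : ∀ t, t ∈ T → k := fun t ht => cT t ht i * cT t⁻¹ (T.inv_mem ht) l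
  have hFT : ∀ t (ht : t ∈ T), ∀ g, F (t * g * t⁻¹) = β t ht * F g := fun t ht g => by
    show e.repr (σ (t * g * t⁻¹) (e l)) i = _
    rw [map_mul, map_mul, End.mul_apply, End.mul_apply, hcT t⁻¹ (T.inv_mem ht) l, map_smul, map_smul, map_smul,
      Finsupp.smul_apply, repr_diag (hcT t ht), smul_eq_mul]
    show _ = cT t ht i * cT t⁻¹ (T.inv_mem ht) l * e.repr (σ g (e l)) i
    ring
  have hinj : ∀ g ∈ K, ∀ g' ∈ K, F g = F g' → g = g' := by
    let K' : Subgroup Γ :=
      { carrier := {g | g ∈ K ∧ F g = 0}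
        one_mem' := ⟨K.one_mem, by rw [hF', map_one, sub_self, LinearMap.zero_apply, map_zero, Finsupp.zero_apply]⟩
        mul_mem' := fun {g g'} hg hg' => ⟨K.mul_mem hg.1 hg'.1, by rw [hFadd g hg.1 g' hg'.1, hg.2, hg'.2, add_zero]⟩
        inv_mem' := fun {g} hg => ⟨K.inv_mem hg.1, by
          have := hFadd g hg.1 g⁻¹ (K.inv_mem hg.1)
          rw [mul_inv_cancel, hg.2, zero_add, hF' 1, map_one, sub_self, LinearMap.zero_apply, map_zero,
            Finsupp.zero_apply] at this
          exact this.symm⟩ }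
    have hK'bot : K' = ⊥ := by
      by_contra hK'
      have hcand : K' ∈ Cand := ⟨DA.isCl_inter hKcl (DA.isCl_of_forall {F}
          (Set.singleton_subset_iff.mpr hFreg) fun g => ⟨fun h f hf => by rw [Set.mem_singleton_iff.mp hf]; exact h, fun h => h F rfl⟩), fun g hg => hKle hg.1, hK',
        fun t ht g hg => ⟨hKT t ht g hg.1, by rw [hFT t ht g, hg.2, mul_zero]⟩⟩
      exact hne1 (by rw [← hF']; exact (hmin K' hcand (fun g hg => hg.1) hg₁).2)
    intro g hg g' hg' hgg
    have hm : g * g'⁻¹ ∈ K' := ⟨K.mul_mem hg (K.inv_mem hg'), by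
      rw [hFadd g hg _ (K.inv_mem hg'), hgg, ← hFadd g' hg' _ (K.inv_mem hg'), mul_inv_cancel, hF', map_one, sub_self,
        LinearMap.zero_apply, map_zero, Finsupp.zero_apply]⟩
    rw [hK'bot, Subgroup.mem_bot] at hm
    exact mul_inv_eq_one.mp hm
  -- the singular subtorus
  have hdT : ∀ t (ht : t ∈ T) m, e.repr (σ t (e m)) m = cT t ht m := fun t ht m => by
    rw [hcT t ht, map_smul, Basis.repr_self, Finsupp.smul_apply, Finsupp.single_eq_same, smul_eq_mul, mul_one]
  let S₀ : Subgroup Γ :=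
    { carrier := {t | t ∈ T ∧ e.repr (σ t (e i)) i = e.repr (σ t (e l)) l}
      one_mem' := ⟨T.one_mem, by simp⟩
      mul_mem' := fun {t t'} ht ht' => ⟨T.mul_mem ht.1 ht'.1, by
        have h1 : cT t ht.1 i = cT t ht.1 l := (hdT t ht.1 i).symm.trans (ht.2.trans (hdT t ht.1 l))
        simp only [map_mul, End.mul_apply]
        exact ((repr_diag (hcT t ht.1) _ i).trans (congrArg₂ (· * ·) h1 ht'.2)).trans (repr_diag (hcT t ht.1) _ l).symm⟩
      inv_mem' := fun {t} ht => ⟨T.inv_mem ht.1, by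
        have h1 : cT t ht.1 i = cT t ht.1 l := (hdT t ht.1 i).symm.trans (ht.2.trans (hdT t ht.1 l))
        rw [hdT t⁻¹ (T.inv_mem ht.1), hdT t⁻¹ (T.inv_mem ht.1)]
        have h2 := hcinv t ht.1 i
        have h3 := hcinv t ht.1 l
        rw [h1] at h2
        exact mul_left_cancel₀ (left_ne_zero_of_mul_eq_one h3) (h2.trans h3.symm)⟩ }
  have hS₀cl : DA.IsCl S₀ := DA.isCl_inter hT.tor.cl (DA.isCl_of_forall
    {fun g => e.repr (σ g (e i)) i - e.repr (σ g (e l)) l}
    (Set.singleton_subset_iff.mpr (DA.R.sub_mem (hσ.reg (e i) (e.coord i)) (hσ.reg (e l) (e.coord l))))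
    fun g => ⟨fun h f hf => by rw [Set.mem_singleton_iff.mp hf]; exact sub_eq_zero.mpr h,
      fun h => sub_eq_zero.mp (h _ rfl)⟩)
  obtain ⟨S, hSS₀, hScl, hSirr, -, Q, hQ⟩ := RadImage.exists_component_le (D := DA) S₀ hS₀cl
  have hST : S ≤ T := fun s hs => (hSS₀ hs).1
  have hStor : IsTor DA S := SubTorus.isTor_of_le hσ hT.tor hScl hSirr hST
  have hKS : ∀ g ∈ K, ∀ s ∈ S, s * g = g * s := fun g hg s hs => by
    have h1 : s * g * s⁻¹ = g := hinj _ (hKT s (hST hs) g hg) g hg (by
      rw [hFT s (hST hs)]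
      have h2 := (hSS₀ hs).2
      rw [repr_diag (hcT s (hST hs)), repr_diag (hcT s (hST hs)), Basis.repr_self, Basis.repr_self,
        Finsupp.single_eq_same, Finsupp.single_eq_same, mul_one, mul_one] at h2
      show cT s (hST hs) i * cT s⁻¹ (T.inv_mem (hST hs)) l * F g = F g
      rw [h2, hcinv, one_mul])
    exact mul_inv_eq_iff_eq_mul.mp h1
  obtain ⟨M, hM0, hM⟩ : ∃ M : ℕ, M ≠ 0 ∧ ∀ t ∈ S₀, t ^ M ∈ S := by
    refine ⟨Nat.factorial (Q.card + 1), Nat.factorial_ne_zero _, fun t ht => ?_⟩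
    choose q hq1 hq2 hq3 using fun m : ℕ => hQ (t ^ m) (S₀.pow_mem ht m)
    obtain ⟨m, hm, m', hm', hne', hqq⟩ := Finset.exists_ne_map_eq_of_card_lt_of_maps_to
      (s := Finset.range (Q.card + 1)) (t := Q) (f := q) (by simp) (fun m _ => hq1 m)
    have key : ∀ m m' : ℕ, m < m' → m' ≤ Q.card → q m = q m' → t ^ Nat.factorial (Q.card + 1) ∈ S := by
      intro m m' hlt hle hqq
      have h1 : t ^ (m' - m) ∈ S := by
        have h2 := S.mul_mem (S.inv_mem (hq3 m)) (hq3 m')
        rw [hqq, mul_inv_rev, _root_.inv_inv, mul_assoc, mul_inv_cancel_left] at h2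
        rwa [pow_sub t hlt.le, ← Commute.inv_left (Commute.pow_pow_self t m m')] at *
      obtain ⟨c, hc⟩ := Nat.dvd_factorial (show 0 < m' - m by omega) (show m' - m ≤ Q.card + 1 by omega)
      rw [hc, pow_mul]
      exact S.pow_mem h1 c
    rw [Finset.mem_range] at hm hm'
    rcases lt_or_gt_of_ne hne' with hlt | hlt
    · exact key m m' hlt (by omega) hqq
    · exact key m' m hlt (by omega) hqq.symm
  -- the torus elements with monomial eigenvalues
  obtain ⟨N0, hN0def⟩ : ∃ N0 : ℤ, N0 = a i - a l := ⟨_, rfl⟩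
  have hN0 : N0 ≠ 0 := by rw [hN0def]; exact sub_ne_zero.mpr haij
  have heig : ∀ n : Γ, (∀ t ∈ T, n * t * n⁻¹ ∈ T) →
      ∃ b : Fin d → ℤ, ∀ (x : kˣ) m, σ (n * lamPt (R := k) lam x * n⁻¹) (e m) = ((x : k) ^ b m) • e m := by
    intro n hn
    have hb : ∀ m, ∃ z : ℤ, ∀ x : kˣ, σ (n * lamPt (R := k) lam x * n⁻¹) (e m) = ((x : k) ^ z) • e m := fun m => by
      obtain ⟨r, hr⟩ : ∃ r, e.repr (σ n⁻¹ (e m)) r ≠ 0 := by
        by_contra hcon
        push Not at hcon
        have h0 : σ n⁻¹ (e m) = 0 := e.repr.injective (by rw [map_zero]; exact Finsupp.ext hcon)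
        refine e.ne_zero m ?_
        have := congrArg (σ n) h0
        rwa [map_zero, ← End.mul_apply, ← map_mul, mul_inv_cancel, map_one, End.one_apply] at this
      refine ⟨a r, fun x => ?_⟩
      have h1 := hcT _ (hn _ (hmem x)) m
      rw [h1]
      congr 1
      have h2 := congrArg (fun v => e.repr (σ n⁻¹ v) r) h1
      simp only [map_mul, End.mul_apply, map_smul, Finsupp.smul_apply, smul_eq_mul] at h2
      rw [← End.mul_apply (σ n⁻¹) (σ n), ← map_mul, inv_mul_cancel, map_one, End.one_apply,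
        repr_diag (hlam x)] at h2
      exact (mul_right_cancel₀ hr h2).symm
    choose b hb using hb
    exact ⟨b, fun x m => hb m x⟩
  have hstep : ∀ n : Γ, n ∈ Subgroup.centralizer (S : Set Γ) → (∀ t ∈ T, n * t * n⁻¹ ∈ T) →
      (n ∈ Subgroup.centralizer (T : Set Γ)) ∨
      (∀ g ∈ K, n⁻¹ * g * n ∈ B) := by
    intro n hnS hnT
    have hnS' : ∀ s ∈ S, n * s * n⁻¹ = s := fun s hs => by
      rw [← (Subgroup.mem_centralizer_iff.mp hnS s hs), mul_inv_cancel_right]
    have hpowT : ∀ (m : ℕ), ∀ t ∈ T, n ^ m * t * (n ^ m)⁻¹ ∈ T := by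
      intro m
      induction m with
      | zero => simp
      | succ m ih =>
        intro t ht
        rw [pow_succ', mul_inv_rev, show n * n ^ m * t * ((n ^ m)⁻¹ * n⁻¹) = n * (n ^ m * t * (n ^ m)⁻¹) * n⁻¹ by group]
        exact hnT _ (ih t ht)
    choose b hb using fun m : ℕ => heig (n ^ m) (hpowT m)
    have hb0 : b 0 = a := funext fun m => zpow_inj (k := k) fun x => by
      have h1 := hb 0 x m
      rw [pow_zero, one_mul, inv_one, mul_one, hlam] at h1
      have := congrArg (fun v => e.repr v m) h1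
      simpa using this.symm
    obtain ⟨P, hP0, hP⟩ : ∃ P : ℕ, 0 < P ∧ n ^ P ∈ Subgroup.centralizer (T : Set Γ) := by
      haveI := (WeylFinite.finite_actions hσ hT.tor).to_subtype
      obtain ⟨m, m', hmm, heq⟩ := Finite.exists_ne_map_eq_of_infinite
        (fun m : ℕ => (⟨fun t : T => n ^ m * t * (n ^ m)⁻¹, n ^ m, hpowT m, rfl⟩ :
          {φ : T → Γ | ∃ n : Γ, (∀ t ∈ T, n * t * n⁻¹ ∈ T) ∧ φ = fun t : T => n * t * n⁻¹}))
      have key : ∀ p p' : ℕ, p < p' → (∀ t : T, n ^ p * t * (n ^ p)⁻¹ = n ^ p' * t * (n ^ p')⁻¹) →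
          ∃ P : ℕ, 0 < P ∧ n ^ P ∈ Subgroup.centralizer (T : Set Γ) := fun p p' hlt h => by
        refine ⟨p' - p, by omega, Subgroup.mem_centralizer_iff.mpr fun t ht => ?_⟩
        have h1 := h ⟨t, ht⟩
        rw [show p' = p + (p' - p) by omega, pow_add] at h1
        exact conj_eq_of h1 rfl
      rcases lt_or_gt_of_ne hmm with hlt | hlt
      · exact key m m' hlt fun t => congrFun (congrArg Subtype.val heq) t
      · exact key m' m hlt fun t => congrFun (congrArg Subtype.val heq.symm) t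
    have hbP : b P = a := funext fun m => zpow_inj (k := k) fun x => by
      have h1 := hb P x m
      rw [← Subgroup.mem_centralizer_iff.mp hP _ (hmem x), mul_inv_cancel_right, hlam] at h1
      have := congrArg (fun v => e.repr v m) h1
      simpa using this.symm
    let q : ℕ → ℤ := fun m => b m i - b m l
    have hq0 : q 0 = N0 := by simp only [q, hb0]; exact hN0def.symm
    -- fixed elements of the singular subtorus
    have hrec : ∀ m r, N0 * (b (m + 1) r - b m r) = q m * (b 1 r - b 0 r) := by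
      intro m
      have hphi : ∀ x : kˣ, ∀ r, σ ((lamPt (R := k) lam (x ^ (-(q m))))
          * (n ^ m * lamPt (R := k) lam (x ^ N0) * (n ^ m)⁻¹)) (e r) =
          ((x : k) ^ (-(q m) * a r + N0 * b m r)) • e r := fun x r => by
        rw [map_mul, End.mul_apply, hb, map_smul, hlam, smul_smul]
        congr 1
        rw [Units.val_zpow_eq_zpow_val, Units.val_zpow_eq_zpow_val, ← zpow_mul, ← zpow_mul, ← zpow_add₀ x.ne_zero]
        congr 1
        ring
      have hS₀mem : ∀ x : kˣ, (lamPt (R := k) lam (x ^ (-(q m))))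
          * (n ^ m * lamPt (R := k) lam (x ^ N0) * (n ^ m)⁻¹) ∈ S₀ := fun x => by
        refine ⟨T.mul_mem (hmem _) (hpowT m _ (hmem _)), ?_⟩
        rw [hphi, hphi]
        simp only [map_smul, Basis.repr_self, Finsupp.smul_apply, Finsupp.single_eq_same, smul_eq_mul, mul_one]
        congr 1
        simp only [q, hN0def]
        ring
      intro r
      have h3 : -(q m) * b 1 r + N0 * b (m + 1) r = -(q m) * a r + N0 * b m r := zpow_mul_inj (k := k) hM0 fun x => by
        set φ := (lamPt (R := k) lam (x ^ (-(q m)))) * (n ^ m * lamPt (R := k) lam (x ^ N0) * (n ^ m)⁻¹) with hφ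
        have hfix : n * φ ^ M * n⁻¹ = φ ^ M := hnS' _ (hM _ (hS₀mem x))
        have hc : ∀ r, σ (n * φ * n⁻¹) (e r) = ((x : k) ^ (-(q m) * b 1 r + N0 * b (m + 1) r)) • e r := fun r => by
          rw [hφ, show n * (lamPt (R := k) lam (x ^ (-(q m))) * (n ^ m * lamPt (R := k) lam (x ^ N0) * (n ^ m)⁻¹)) * n⁻¹ =
            (n ^ 1 * lamPt (R := k) lam (x ^ (-(q m))) * (n ^ 1)⁻¹) *
              (n ^ (m + 1) * lamPt (R := k) lam (x ^ N0) * (n ^ (m + 1))⁻¹) by rw [pow_one, pow_succ']; group,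
            map_mul, End.mul_apply, hb, map_smul, hb, smul_smul]
          congr 1
          rw [Units.val_zpow_eq_zpow_val, Units.val_zpow_eq_zpow_val, ← zpow_mul, ← zpow_mul, ← zpow_add₀ x.ne_zero]
          congr 1
          ring
        have hp : ∀ (g : Γ) (c : k), σ g (e r) = c • e r → ∀ p : ℕ, σ (g ^ p) (e r) = (c ^ p) • e r := fun g c hg p => by
          induction p with
          | zero => simp
          | succ p ih => rw [pow_succ, map_mul, End.mul_apply, hg, map_smul, ih, smul_smul, pow_succ']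
        have e1 := hp _ _ (hc r) M
        rw [conj_pow, hfix, hp _ _ (hphi x r) M] at e1
        have := congrArg (fun v => e.repr v r) e1
        simp only [map_smul, Basis.repr_self, Finsupp.smul_apply, Finsupp.single_eq_same, smul_eq_mul, mul_one] at this
        exact this.symm
      rw [hb0]
      linear_combination h3
    have hq : ∀ m, N0 ^ m * q m = N0 * (q 1) ^ m := by
      intro m
      induction m with
      | zero => simp [hq0]
      | succ m ih =>
        have h1 : N0 * q (m + 1) = q m * q 1 := by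
          have hi := hrec m i
          have hl := hrec m l
          have h0 : b 0 i - b 0 l = N0 := hq0
          simp only [q] at h0 hi hl ⊢
          linear_combination hi - hl - (b m i - b m l) * h0
        rw [pow_succ', pow_succ', mul_assoc, ← mul_assoc, mul_comm N0 (N0 ^ m), mul_assoc, h1]
        linear_combination q 1 * ih
    have hqP : q 1 ^ P = N0 ^ P := by
      have h1 := hq P
      rw [show q P = N0 from by simp only [q, hbP]; exact hN0def.symm] at h1
      exact mul_left_cancel₀ hN0 (by linear_combination -h1)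
    by_cases hq1 : q 1 = N0
    · refine Or.inl (hcent n fun x => ?_)
      have hlin : ∀ m r, b m r = b 0 r + m * (b 1 r - b 0 r) := by
        intro m r
        induction m with
        | zero => simp
        | succ m ih =>
          have h1 := hrec m r
          have hqm : q m = N0 := by
            have := hq m
            rw [hq1] at this
            exact mul_left_cancel₀ (pow_ne_zero m hN0) (by linear_combination this)
          rw [hqm] at h1
          have h2 := mul_left_cancel₀ hN0 h1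
          push_cast
          linear_combination h2 + ih
      have hb1 : b 1 = a := funext fun r => by
        have h1 := hlin P r
        rw [hbP, hb0] at h1
        have h2 : (P : ℤ) * (b 1 r - a r) = 0 := by linear_combination -h1
        exact sub_eq_zero.mp ((mul_eq_zero.mp h2).resolve_left (Int.natCast_ne_zero.mpr hP0.ne'))
      have h4 : n * lamPt (R := k) lam x * n⁻¹ = lamPt (R := k) lam x := hσ.faith (e.ext fun r => by
        rw [hlam, ← hb1, ← hb 1 x r, pow_one])
      conv_lhs => rw [← h4]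
      rw [inv_mul_cancel_right]
    · have hq2 : q 1 = -N0 := by
        rcases Int.natAbs_eq_natAbs_iff.mp (Nat.pow_left_injective hP0.ne' (show (q 1).natAbs ^ P = N0.natAbs ^ P by
          rw [← Int.natAbs_pow, ← Int.natAbs_pow, hqP])) with h | h
        · exact absurd h hq1
        · exact h
      refine Or.inr fun g hg => htr n g _ (hKle hg).2 fun x => ?_
      set ν := n * lamPt (R := k) lam x * n⁻¹ with hν
      have hνT : ν ∈ T := hnT _ (hmem x)
      have h1 : ν * g * ν⁻¹ = conj lam x⁻¹ g := hinj _ (hKT _ hνT g hg) _ (hKT _ (hmem _) g hg) (by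
        show F (ν * g * ν⁻¹) = F (lamPt (R := k) lam x⁻¹ * g * (lamPt (R := k) lam x⁻¹)⁻¹)
        rw [hFT ν hνT, hFT _ (hmem _)]
        congr 1
        have hev : ∀ (t : Γ) (ht : t ∈ T) (c : Fin d → k), (∀ r, σ t (e r) = c r • e r) → β t ht * c l = c i := by
          intro t ht c hc
          have heq : ∀ r, cT t ht r = c r := fun r => by
            have h2 := congrArg (fun v => e.repr v r) ((hcT t ht r).symm.trans (hc r))
            simpa using h2
          show cT t ht i * cT t⁻¹ (T.inv_mem ht) l * c l = c i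
          rw [mul_assoc, ← heq l, mul_comm (cT t⁻¹ (T.inv_mem ht) l), hcinv, mul_one, heq]
        have e1 := hev ν hνT (fun r => (x : k) ^ b 1 r) (fun r => by rw [hν]; simpa using hb 1 x r)
        have e2 := hev _ (hmem x⁻¹) (fun r => ((x⁻¹ : kˣ) : k) ^ a r) (hlam x⁻¹)
        have hx0 : ∀ z : ℤ, (x : k) ^ z ≠ 0 := fun z => zpow_ne_zero _ x.ne_zero
        have e1' : β ν hνT = (x : k) ^ (q 1) := by
          show _ = (x : k) ^ (b 1 i - b 1 l)
          rw [zpow_sub₀ x.ne_zero, eq_div_iff (hx0 _)]; exact e1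
        have e2' : β (lamPt (R := k) lam x⁻¹) (hmem x⁻¹) = (x : k) ^ (-(a i - a l)) := by
          simp only [Units.val_inv_eq_inv_val, inv_zpow'] at e2
          rw [show -(a i - a l) = -a i - -a l by ring, zpow_sub₀ x.ne_zero, eq_div_iff (hx0 _)]; exact e2
        rw [e1', e2', hq2, hN0def])
      show lamPt (R := k) lam x * (n⁻¹ * g * n) * (lamPt (R := k) lam x)⁻¹ = n⁻¹ * conj lam x⁻¹ g * n
      rw [← h1, hν]
      exact conj_transfer _ _ _
  -- the subgroup lies in every Borel subgroup containing the torus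
  have hin : ∀ c, (∀ t ∈ T, c⁻¹ * t * c ∈ B) → ∀ g ∈ K, c⁻¹ * g * c ∈ B := by
    intro c hc
    obtain ⟨hCcl, hCirr, hBC⟩ := SubTorus.isBor_centralizer hirr hmul hσ hB hStor (hST.trans hTB)
    set C := Subgroup.centralizer (S : Set Γ) with hC
    set Q := B.map (MulAut.conj c).toMonoidHom
    have hQ : IsBor DA Q := isBor_conj hB c
    have hTQ : T ≤ Q := fun t ht => mem_map.mpr (hc t ht)
    obtain ⟨hCcl', -, hQC⟩ := SubTorus.isBor_centralizer hirr hmul hσ hQ hStor (hST.trans hTQ)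
    have hTC : T ≤ C := fun t ht => Subgroup.mem_centralizer_iff.mpr fun s hs => hT.tor.comm s (hST hs) t ht
    set DC := DA.restrict C hCcl
    have hTC' : IsMax DC (T.subgroupOf C) := by
      refine ⟨IsTor.restrict hCcl hT.tor hTC, fun S' hS' hle s hs => ?_⟩
      have himg : IsTor DA (S'.map C.subtype) := by
        have hset : ((S'.map C.subtype : Subgroup Γ) : Set Γ) = Subtype.val '' (S' : Set C) := Subgroup.coe_map _ _
        refine ⟨hset ▸ DA.isCl_image hS'.cl, hset ▸ DA.sirr_restrict.mp hS'.irr, ?_, ?_⟩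
        · rintro _ ⟨p, hp, rfl⟩ _ ⟨p', hp', rfl⟩
          rw [← map_mul, hS'.comm p hp p' hp', map_mul]
        · rintro f hf h _ ⟨t, ht, rfl⟩
          refine hS'.dense _ ⟨f, hf, rfl⟩ (fun p hp ⟨m, hm, hpm⟩ => h _ ⟨p, hp, rfl⟩ ⟨m, hm, ?_⟩) t ht
          show ((p : Γ)) ^ m = 1
          rw [← SubmonoidClass.coe_pow, hpm, OneMemClass.coe_one]
      exact hT.max _ himg (fun t ht => ⟨⟨t, hTC ht⟩, hle ht, rfl⟩) ⟨s, hs, rfl⟩
    have hσC := GenRep.Gen.restrict DA hσ C hCcl
    have hmulC := hasMul_restrict DA hmul C hCcl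
    obtain ⟨g, hg⟩ := Image.exists_eq_conj hBC.irr hBC.solv hBC.abs
      (Image.isMax_of_absorbing hQC.cl hQC.irr hQC.solv hQC.abs)
    obtain ⟨n, hnT, hnB⟩ := WeylFinite.exists_normalizer hmulC hσC hQC hTC'
      (fun t ht => hTB ht) (fun t ht => hTQ ht) hg.symm
    have hnT' : ∀ t ∈ T, (n : Γ) * t * (n : Γ)⁻¹ ∈ T := fun t ht => by
      have h : n * ⟨t, hTC ht⟩ * n⁻¹ ∈ (T.subgroupOf C).map (MulAut.conj n).toMonoidHom :=
        ⟨⟨t, hTC ht⟩, ht, rfl⟩
      rw [hnT] at h
      exact h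
    intro g hg
    have hgC : g ∈ C := Subgroup.mem_centralizer_iff.mpr fun s hs => hKS g hg s hs
    suffices hgQ : g ∈ Q from mem_map.mp hgQ
    suffices h : (n⁻¹ * ⟨g, hgC⟩ * n : C) ∈ B.subgroupOf C by
      have h' : (⟨g, hgC⟩ : C) ∈ (B.subgroupOf C).map (MulAut.conj n).toMonoidHom := mem_map.mpr h
      rw [hnB] at h'
      exact h'
    show (n : Γ)⁻¹ * g * (n : Γ) ∈ B
    rcases hstep n n.2 hnT' with h | h
    · have hnB : (n : Γ) ∈ B := MaxTorus.centralizer_le hirr hmul hσ hB hT hTB h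
      exact B.mul_mem (B.mul_mem (B.inv_mem hnB) (hKle hg).1) hnB
    · exact h g hg
  obtain ⟨C, hC1, hC2, hC3, hC4, hC5, hC6⟩ := Chevalley.exists_normal_unipotent hmul hσ hB hT hTB hKirr
    (fun s hs => nilp_of_lvl (hlvl' s hs).1) hin
  exact hKne (eq_bot_iff.mpr (hC6.trans (hR C hC1 hC2 hC3 hC4 hC5).le))

end Groth.Agent.Lib.H1.Grosshans
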