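import Groth.Agent.Lib.H1.Grosshans.Bridge
import Groth.Agent.H1.Obs.Transfer

/-!
# Weight components of a rational module along the cocharacter of a big cell
-/

universe u

open CategoryTheory MonoidalCategory CartesianMonoidalCategory MonObj GrpObj AlgebraicGeometry
open scoped TensorProduct

namespace Groth.Agent.Lib.H1.Grosshans

set_option linter.style.haveILetI false
set_option linter.unusedSectionVars false

open LaurentPolynomial
open Groth.Agent.Lib.RedPts Groth.Agent.Lib.RedPts.Points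
open Groth.Agent.H1.Classical.Scheme' Groth.Agent.H1.Obs Groth.Agent.H1.RInv
open Groth.Agent.Lib.Dyn85

attribute [local instance] baseAlgebra

variable {k : Type u} [Field k] [IsAlgClosed k] {G B U : Over (Spec (CommRingCat.of k))} [GrpObj G] [GrpObj B]
  [GrpObj U] [IsAffine G.left] [Smooth G.hom] {iB : B ⟶ G} {u : U ⟶ B} (Bc : BigCell G B U iB u)

theorem evR_eq_sum (x : kˣ) (L : k[T;T⁻¹]) :
    evR (AlgHom.id k k) x L = ∑ n ∈ L.coeff.support, L.coeff n * ((x ^ n : kˣ) : k) := by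
  conv_lhs => rw [← AddMonoidAlgebra.sum_single L]
  rw [Finsupp.sum, map_sum]
  exact Finset.sum_congr rfl fun n _ => by rw [evR_single, AlgHom.id_apply]

theorem evR_eq_sum' (x : kˣ) (L : k[T;T⁻¹]) {s : Finset ℤ} (hs : L.coeff.support ⊆ s) :
    evR (AlgHom.id k k) x L = ∑ n ∈ s, L.coeff n * ((x ^ n : kˣ) : k) := by
  rw [evR_eq_sum]
  exact Finset.sum_subset hs fun n _ hn => by rw [Finsupp.notMem_support_iff.mp hn, zero_mul]

theorem zero_of_sum {s : Finset ℤ} {a : ℤ → k} (h : ∀ x : kˣ, ∑ n ∈ s, a n * ((x ^ n : kˣ) : k) = 0) :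
    ∀ n ∈ s, a n = 0 := by
  classical
  intro n hn
  have h0 : (∑ m ∈ s, AddMonoidAlgebra.single m (a m) : k[T;T⁻¹]) = 0 :=
    Groth.Agent.H1.Obs.UFG.laurent_ext fun x => by
      rw [map_zero, map_sum]
      simpa only [evR_single, AlgHom.id_apply] using h x
  have h1 := congrArg (fun L : k[T;T⁻¹] => L.coeff n) h0
  simpa [AddMonoidAlgebra.coeff_sum, AddMonoidAlgebra.coeff_single, Finset.sum_apply', Finsupp.single_apply, hn,
    -LaurentPolynomial.single_eq_C_mul_T]
    using h1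

theorem lp_one : Bc.lp 1 = 1 := by
  have h := Bc.lp_mul 1 1
  rw [_root_.mul_one] at h
  exact mul_eq_left.mp h.symm

theorem lp_comm (x : kˣ) {t : P G} (ht : t ∈ Bc.Ts) : Bc.lp x * t = t * Bc.lp x := Bc.comm _ (Bc.lp_mem x) _ ht

section Module

variable {M : Type u} [AddCommGroup M] [Module k M] (ρ : VecGrp.GMod G M)

/-- Finitely many functions describe the orbit of a vector. -/
theorem exists_orbit_sum (v : M) :
    ∃ s : Finset (Γ(G.left, ⊤) × M), ∀ x : P G, act ρ x v = ∑ p ∈ s, ev x p.1 • p.2 := by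
  obtain ⟨s, hs⟩ := TensorProduct.exists_finset (R := k)
    (ρ.ρ Γ(G.left, ⊤) (univPt G) ((1 : Γ(G.left, ⊤)) ⊗ₜ v))
  refine ⟨s, fun x => ?_⟩
  have h := congrArg (TensorProduct.lid k M) (Wmap_univ ρ x v)
  rw [hs, map_sum, map_sum] at h
  simp only [VecGrp.Wmap_tmul, TensorProduct.lid_tmul, one_smul] at h
  rw [← h]
  rfl

/-- The coefficient functional. -/
noncomputable def lcoef (n : ℤ) : Γ(G.left, ⊤) →ₗ[k] k where
  toFun f := (Bc.lc f).coeff n
  map_add' f g := by rw [map_add]; simp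
  map_smul' c f := by rw [map_smul]; simp

/-- The weight component. -/
noncomputable def pr (n : ℤ) : M →ₗ[k] M :=
  (TensorProduct.lid k M).toLinearMap ∘ₗ LinearMap.rTensor M (lcoef Bc n) ∘ₗ
    ((ρ.ρ Γ(G.left, ⊤) (univPt G)).toLinearMap.restrictScalars k) ∘ₗ TensorProduct.mk k Γ(G.left, ⊤) M 1

theorem pr_def (n : ℤ) (v : M) : pr Bc ρ n v =
    TensorProduct.lid k M (LinearMap.rTensor M (lcoef Bc n)
      (ρ.ρ Γ(G.left, ⊤) (univPt G) ((1 : Γ(G.left, ⊤)) ⊗ₜ v))) := rfl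

theorem exists_support (v : M) : ∃ s : Finset ℤ, (∀ n ∉ s, pr Bc ρ n v = 0) ∧
    ∀ x : kˣ, act ρ (Bc.lp x) v = ∑ n ∈ s, ((x ^ n : kˣ) : k) • pr Bc ρ n v := by
  classical
  obtain ⟨p, hp⟩ := TensorProduct.exists_finset (R := k)
    (ρ.ρ Γ(G.left, ⊤) (univPt G) ((1 : Γ(G.left, ⊤)) ⊗ₜ v))
  have hpr : ∀ n, pr Bc ρ n v = ∑ q ∈ p, (Bc.lc q.1).coeff n • q.2 := fun n => by
    rw [pr_def, hp, map_sum, map_sum]
    rfl
  refine ⟨p.biUnion fun q => (Bc.lc q.1).coeff.support, fun n hn => ?_, fun x => ?_⟩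
  · rw [hpr]
    refine Finset.sum_eq_zero fun q hq => ?_
    rw [Finsupp.notMem_support_iff.mp fun h => hn (Finset.mem_biUnion.mpr ⟨q, hq, h⟩), zero_smul]
  · have h := congrArg (TensorProduct.lid k M) (Wmap_univ ρ (Bc.lp x) v)
    rw [hp, map_sum, map_sum] at h
    simp only [VecGrp.Wmap_tmul, TensorProduct.lid_tmul, one_smul] at h
    rw [← h]
    refine Eq.trans ?_ (Finset.sum_congr rfl fun n _ => by rw [hpr n, Finset.smul_sum]).symm
    rw [Finset.sum_comm]
    refine Finset.sum_congr rfl fun q hq => ?_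
    rw [show evA (Bc.lp x) q.1 = ev (Bc.lp x) q.1 from rfl, Bc.ev_lp,
      evR_eq_sum' x (Bc.lc q.1) (s := p.biUnion fun q => (Bc.lc q.1).coeff.support)
        (fun n hn => Finset.mem_biUnion.mpr ⟨q, hq, hn⟩), Finset.sum_smul]
    exact Finset.sum_congr rfl fun n _ => by rw [smul_smul, mul_comm]

/-- An expansion of the action of the cocharacter gives the components. -/
theorem pr_unique {v : M} {s : Finset ℤ} {a : ℤ → M}
    (h : ∀ x : kˣ, act ρ (Bc.lp x) v = ∑ n ∈ s, ((x ^ n : kˣ) : k) • a n) (m : ℤ) :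
    pr Bc ρ m v = if m ∈ s then a m else 0 := by
  classical
  obtain ⟨t, ht0, ht⟩ := exists_support Bc ρ v
  rw [← sub_eq_zero, ← Module.forall_dual_apply_eq_zero_iff k]
  intro l
  by_cases hm : m ∈ t ∪ s
  · refine zero_of_sum (s := t ∪ s) (a := fun n => l (pr Bc ρ n v - if n ∈ s then a n else 0)) (fun x => ?_) m hm
    have h1 : ∑ n ∈ t ∪ s, ((x ^ n : kˣ) : k) • pr Bc ρ n v = act ρ (Bc.lp x) v := by
      rw [ht x]
      exact (Finset.sum_subset Finset.subset_union_left fun n _ hn => by rw [ht0 n hn, smul_zero]).symm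
    have h2 : ∑ n ∈ t ∪ s, ((x ^ n : kˣ) : k) • (if n ∈ s then a n else 0) = act ρ (Bc.lp x) v := by
      rw [h x]
      refine ((Finset.sum_subset Finset.subset_union_right fun n _ hn => by rw [if_neg hn, smul_zero]).symm).trans ?_
      exact Finset.sum_congr rfl fun n hn => by rw [if_pos hn]
    have h3 := congrArg l (sub_eq_zero.mpr (h1.trans h2.symm))
    rw [← Finset.sum_sub_distrib, map_sum, map_zero] at h3
    rw [← h3]
    exact Finset.sum_congr rfl fun n _ => by rw [← smul_sub, map_smul, smul_eq_mul, mul_comm]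
  · rw [Finset.mem_union, not_or] at hm
    rw [ht0 m hm.1, if_neg hm.2, sub_zero, map_zero]

/-- Homogeneous vectors. -/
def Hom (n : ℤ) (v : M) : Prop := ∀ x : kˣ, act ρ (Bc.lp x) v = ((x ^ n : kˣ) : k) • v

theorem pr_hom {n : ℤ} {v : M} (h : Hom Bc ρ n v) (m : ℤ) : pr Bc ρ m v = if m = n then v else 0 := by
  rw [pr_unique Bc ρ (s := {n}) (a := fun _ => v) (fun x => by rw [Finset.sum_singleton]; exact h x) m]
  simp only [Finset.mem_singleton]

theorem sum_pr (v : M) {s : Finset ℤ} (hs : ∀ n ∉ s, pr Bc ρ n v = 0) : ∑ n ∈ s, pr Bc ρ n v = v := by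
  classical
  obtain ⟨t, ht0, ht⟩ := exists_support Bc ρ v
  have h := ht 1
  rw [lp_one, Groth.Agent.H1.Obs.act_one] at h
  simp only [one_zpow, Units.val_one, one_smul] at h
  conv_rhs => rw [h]
  rw [Finset.sum_subset (Finset.subset_union_left (s₂ := t)) fun n _ hn => hs n hn,
    Finset.sum_subset (Finset.subset_union_right (s₁ := s)) fun n _ hn => ht0 n hn]

theorem pr_comm (φ : M →ₗ[k] M) (hφ : ∀ x w, φ (act ρ (Bc.lp x) w) = act ρ (Bc.lp x) (φ w)) (n : ℤ) (v : M) :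
    pr Bc ρ n (φ v) = φ (pr Bc ρ n v) := by
  classical
  obtain ⟨t, ht0, ht⟩ := exists_support Bc ρ v
  rw [pr_unique Bc ρ (v := φ v) (s := t) (a := fun m => φ (pr Bc ρ m v))
    (fun x => by rw [← hφ, ht x, map_sum]; exact Finset.sum_congr rfl fun m _ => map_smul _ _ _) n]
  by_cases h : n ∈ t
  · rw [if_pos h]
  · rw [if_neg h, ht0 n h, map_zero]

theorem pr_act (t : P G) (ht : t ∈ Bc.Ts) (n : ℤ) (v : M) : pr Bc ρ n (act ρ t v) = act ρ t (pr Bc ρ n v) :=
  pr_comm Bc ρ _ (fun x w => by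
    rw [← Groth.Agent.H1.Obs.act_mul, ← Groth.Agent.H1.Obs.act_mul, lp_comm Bc x ht]) n v

theorem hom_pr (n : ℤ) (v : M) : Hom Bc ρ n (pr Bc ρ n v) := fun y => by
  classical
  obtain ⟨t, ht0, ht⟩ := exists_support Bc ρ v
  rw [← pr_act Bc ρ _ (Bc.lp_mem y), pr_unique Bc ρ (v := act ρ (Bc.lp y) v) (s := t)
    (a := fun m => ((y ^ m : kˣ) : k) • pr Bc ρ m v) (fun x => by
      rw [← Groth.Agent.H1.Obs.act_mul, ← Bc.lp_mul, ht (x * y)]
      exact Finset.sum_congr rfl fun m _ => by rw [mul_zpow, Units.val_mul, smul_smul]) n]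
  by_cases h : n ∈ t
  · rw [if_pos h]
  · rw [if_neg h, ht0 n h, smul_zero]

theorem pr_pr (m n : ℤ) (v : M) : pr Bc ρ m (pr Bc ρ n v) = if m = n then pr Bc ρ n v else 0 :=
  pr_hom Bc ρ (hom_pr Bc ρ n v) m

/-- Stable subspaces contain the components of their elements. -/
theorem pr_mem (V : Submodule k M) (hV : ∀ x, ∀ w ∈ V, act ρ (Bc.lp x) w ∈ V) {v : M} (hv : v ∈ V) (n : ℤ) :
    pr Bc ρ n v ∈ V := by
  classical
  obtain ⟨t, ht0, ht⟩ := exists_support Bc ρ v
  by_cases h : n ∈ t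
  · by_contra hn
    obtain ⟨l, hl, hlV⟩ := Submodule.exists_le_ker_of_notMem hn
    refine hl (zero_of_sum (a := fun m => l (pr Bc ρ m v)) (fun x => ?_) n h)
    have h1 : l (act ρ (Bc.lp x) v) = 0 := hlV (hV x v hv)
    rw [ht x, map_sum] at h1
    rw [← h1]
    exact Finset.sum_congr rfl fun m _ => by rw [map_smul, smul_eq_mul, mul_comm]
  · rw [ht0 n h]; exact V.zero_mem

/-- The two contracting sides change the weights in one direction. -/
theorem contract {g : P G} {v : M} {n : ℤ} (hv : Hom Bc ρ n v) (neg : Bool)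
    (hL : ∀ f, ∃ L : k[T;T⁻¹], (∀ x, ev (Bc.lp x * g * (Bc.lp x)⁻¹) f = evR (AlgHom.id k k) x L) ∧
      (∀ m : ℤ, (if neg then 0 < m else m < 0) → L.coeff m = 0) ∧ L.coeff 0 = ev 1 f) :
    (∀ m : ℤ, (if neg then n < m else m < n) → pr Bc ρ m (act ρ g v) = 0) ∧ pr Bc ρ n (act ρ g v) = v := by
  classical
  obtain ⟨s, hs⟩ := exists_orbit_sum ρ v
  choose L hL1 hL2 hL3 using hL
  set S : Finset ℤ := insert n (s.biUnion fun p => (L p.1).coeff.support.image fun m => n + m) with hS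
  have hexp : ∀ x : kˣ, act ρ (Bc.lp x) (act ρ g v) =
      ∑ m ∈ S, ((x ^ m : kˣ) : k) • ∑ p ∈ s, (L p.1).coeff (m - n) • p.2 := fun x => by
    have hinv : act ρ (Bc.lp x)⁻¹ v = ((x ^ n : kˣ) : k)⁻¹ • v := by
      have h1 := congrArg (act ρ (Bc.lp x)⁻¹) (hv x)
      rw [← Groth.Agent.H1.Obs.act_mul, inv_mul_cancel, Groth.Agent.H1.Obs.act_one, map_smul] at h1
      exact (eq_inv_smul_iff₀ (Units.ne_zero _)).mpr h1.symm
    have h2 : act ρ (Bc.lp x) (act ρ g v) =
        ((x ^ n : kˣ) : k) • act ρ (Bc.lp x * g * (Bc.lp x)⁻¹) v := by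
      rw [Groth.Agent.H1.Obs.act_mul ρ (Bc.lp x * g), hinv, map_smul, smul_smul, mul_inv_cancel₀ (Units.ne_zero _),
        one_smul, Groth.Agent.H1.Obs.act_mul]
    rw [h2, hs, Finset.smul_sum, Finset.sum_congr rfl fun m _ => Finset.smul_sum, Finset.sum_comm]
    refine Finset.sum_congr rfl fun p hp => ?_
    rw [hL1, evR_eq_sum' x (L p.1) (s := S.image fun m => m - n) fun m hm => Finset.mem_image.mpr
        ⟨n + m, Finset.mem_insert_of_mem (Finset.mem_biUnion.mpr ⟨p, hp, Finset.mem_image.mpr ⟨m, hm, rfl⟩⟩), by ring⟩,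
      Finset.sum_image fun a _ b _ h => by simpa using h, Finset.sum_smul, Finset.smul_sum]
    refine Finset.sum_congr rfl fun m _ => ?_
    rw [smul_smul, smul_smul, mul_comm ((L p.1).coeff _), ← _root_.mul_assoc, ← Units.val_mul, ← zpow_add,
      add_sub_cancel]
  have hpr := pr_unique Bc ρ hexp
  have hv1 : v = ∑ p ∈ s, ev 1 p.1 • p.2 := by rw [← hs, Groth.Agent.H1.Obs.act_one]
  refine ⟨fun m hm => ?_, ?_⟩
  · rw [hpr]
    split_ifs
    · refine Finset.sum_eq_zero fun p _ => ?_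
      rw [hL2 p.1 (m - n) (by cases neg <;> simp_all), zero_smul]
    · rfl
  · rw [hpr, if_pos (Finset.mem_insert_self _ _)]
    conv_rhs => rw [hv1]
    simp only [sub_self, hL3]

theorem raise_pr {g : P G} (hg : g ∈ Bc.Us) {v : M} {n : ℤ} (hv : Hom Bc ρ n v) :
    (∀ m < n, pr Bc ρ m (act ρ g v) = 0) ∧ pr Bc ρ n (act ρ g v) = v := by
  have := contract Bc ρ (g := g) hv false fun f => by simpa using Bc.raise g hg f
  simpa using this

theorem lower_pr {g : P G} (hg : g ∈ Bc.Ns) {v : M} {n : ℤ} (hv : Hom Bc ρ n v) :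
    (∀ m : ℤ, n < m → pr Bc ρ m (act ρ g v) = 0) ∧ pr Bc ρ n (act ρ g v) = v := by
  have := contract Bc ρ (g := g) hv true fun f => by simpa using Bc.lower g hg f
  simpa using this

/-- The vectors all of whose translates have weight at most `n`. -/
def Fil (n : ℤ) : Submodule k M where
  carrier := {v | ∀ (g : P G) (m : ℤ), n < m → pr Bc ρ m (act ρ g v) = 0}
  zero_mem' g m _ := by rw [map_zero, map_zero]
  add_mem' ha hb g m hm := by rw [map_add, map_add, ha g m hm, hb g m hm, add_zero]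
  smul_mem' c v hv g m hm := by rw [map_smul, map_smul, hv g m hm, smul_zero]

theorem mem_Fil {n : ℤ} {v : M} : v ∈ Fil Bc ρ n ↔ ∀ (g : P G) (m : ℤ), n < m → pr Bc ρ m (act ρ g v) = 0 := Iff.rfl

theorem Fil_act {n : ℤ} {v : M} (hv : v ∈ Fil Bc ρ n) (g : P G) : act ρ g v ∈ Fil Bc ρ n := fun g' m hm => by
  rw [← Groth.Agent.H1.Obs.act_mul]; exact hv _ m hm

theorem Fil_pr {n : ℤ} {v : M} (hv : v ∈ Fil Bc ρ n) (m : ℤ) : pr Bc ρ m v ∈ Fil Bc ρ n :=
  pr_mem Bc ρ _ (fun _ _ hw => Fil_act Bc ρ hw _) hv m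

theorem Fil_mono {m n : ℤ} (h : m ≤ n) : Fil Bc ρ m ≤ Fil Bc ρ n := fun _ hv g i hi => hv g i (by omega)

theorem exists_Fil (v : M) : ∃ n : ℤ, v ∈ Fil Bc ρ n := by
  classical
  obtain ⟨s, hs⟩ := exists_orbit_sum ρ v
  choose t ht0 _ using fun p : Γ(G.left, ⊤) × M => exists_support Bc ρ p.2
  obtain ⟨N, hN⟩ := (s.biUnion t).bddAbove
  refine ⟨N, fun g m hm => ?_⟩
  rw [hs, map_sum]
  refine Finset.sum_eq_zero fun p hp => ?_
  rw [map_smul, ht0 p m (fun h => absurd (hN (Finset.mem_coe.mpr (Finset.mem_biUnion.mpr ⟨p, hp, h⟩))) (by omega)),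
    smul_zero]

/-- The top component of a translate is fixed by the positive part. -/
theorem top_fixed {n : ℤ} {v : M} (hv : v ∈ Fil Bc ρ n) {g : P G} (hg : g ∈ Bc.Us) :
    act ρ g (pr Bc ρ n v) = pr Bc ρ n v := by
  classical
  obtain ⟨hlow, hn⟩ := raise_pr Bc ρ hg (hom_pr Bc ρ n v)
  have hF := Fil_pr Bc ρ hv n
  rw [← sum_pr Bc ρ (act ρ g (pr Bc ρ n v)) (s := {n}) fun m hm => ?_, Finset.sum_singleton, hn]
  rcases lt_or_gt_of_ne (Finset.notMem_singleton.mp hm) with h | h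
  · exact hlow m h
  · exact hF g m h

/-- The top component does not see the negative part. -/
theorem top_lower {n : ℤ} {v : M} (hv : v ∈ Fil Bc ρ n) {g : P G} (hg : g ∈ Bc.Ns) :
    pr Bc ρ n (act ρ g v) = pr Bc ρ n v := by
  classical
  obtain ⟨t, ht0, -⟩ := exists_support Bc ρ v
  have hv' : v = ∑ m ∈ insert n t, pr Bc ρ m v :=
    (sum_pr Bc ρ v fun m hm => ht0 m fun h => hm (Finset.mem_insert_of_mem h)).symm
  conv_lhs => rw [hv', map_sum, map_sum]
  rw [Finset.sum_eq_single n (fun m _ hm => ?_) (fun h => absurd (Finset.mem_insert_self _ _) h)]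
  · exact (lower_pr Bc ρ hg (hom_pr Bc ρ n v)).2
  · rcases lt_or_gt_of_ne hm with h | h
    · exact (lower_pr Bc ρ hg (hom_pr Bc ρ m v)).1 n h
    · have h0 : pr Bc ρ m v = 0 := by
        have := hv 1 m h
        rwa [Groth.Agent.H1.Obs.act_one] at this
      rw [h0, map_zero, map_zero]

end Module

section Algebra

variable {A : Type u} [CommRing A] [Algebra k A] (ρ : VecGrp.GMod G A) (hρ : ρ.IsMult)

include hρ in
theorem act_mult (x : P G) (a b : A) : act ρ x (a * b) = act ρ x a * act ρ x b := by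
  apply (TensorProduct.lid k A).symm.injective
  rw [TensorProduct.lid_symm_apply, TensorProduct.lid_symm_apply, ← act_apply]
  have h := (hρ k (toPt x)).1 ((1 : k) ⊗ₜ a) ((1 : k) ⊗ₜ b)
  rw [Algebra.TensorProduct.tmul_mul_tmul, _root_.one_mul, act_apply ρ x a, act_apply ρ x b,
    Algebra.TensorProduct.tmul_mul_tmul, _root_.one_mul] at h
  exact h

include hρ in
theorem act_one_elt (x : P G) : act ρ x (1 : A) = 1 := by
  apply (TensorProduct.lid k A).symm.injective
  rw [TensorProduct.lid_symm_apply, TensorProduct.lid_symm_apply, ← act_apply]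
  exact (hρ k (toPt x)).2

include hρ in
theorem hom_one : Hom Bc ρ 0 (1 : A) := fun x => by
  rw [act_one_elt ρ hρ, zpow_zero, Units.val_one, one_smul]

include hρ in
theorem hom_mul {m n : ℤ} {a b : A} (ha : Hom Bc ρ m a) (hb : Hom Bc ρ n b) : Hom Bc ρ (m + n) (a * b) := fun x => by
  rw [act_mult ρ hρ, ha x, hb x, zpow_add, Units.val_mul, smul_mul_smul_comm]

include hρ in
theorem Fil_mul {m n : ℤ} {a b : A} (ha : a ∈ Fil Bc ρ m) (hb : b ∈ Fil Bc ρ n) :
    a * b ∈ Fil Bc ρ (m + n) ∧ pr Bc ρ (m + n) (a * b) = pr Bc ρ m a * pr Bc ρ n b := by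
  classical
  have key : ∀ a ∈ Fil Bc ρ m, ∀ b ∈ Fil Bc ρ n, (∀ j, m + n < j → pr Bc ρ j (a * b) = 0) ∧
      pr Bc ρ (m + n) (a * b) = pr Bc ρ m a * pr Bc ρ n b := by
    intro a ha b hb
    obtain ⟨s, hs, -⟩ := exists_support Bc ρ a
    obtain ⟨t, ht, -⟩ := exists_support Bc ρ b
    have hle : ∀ {N : ℤ} {w : A}, w ∈ Fil Bc ρ N → ∀ i, N < i → pr Bc ρ i w = 0 := fun hw i hi => by
      have := hw 1 i hi
      rwa [Groth.Agent.H1.Obs.act_one] at this
    have h : ∀ j, pr Bc ρ j (a * b) =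
        ∑ i ∈ insert m s, ∑ l ∈ insert n t, if j = i + l then pr Bc ρ i a * pr Bc ρ l b else 0 := by
      intro j
      conv_lhs => rw [← sum_pr Bc ρ a (s := insert m s) fun i hi => hs i fun h => hi (Finset.mem_insert_of_mem h),
        ← sum_pr Bc ρ b (s := insert n t) fun i hi => ht i fun h => hi (Finset.mem_insert_of_mem h),
        Finset.sum_mul_sum, map_sum, Finset.sum_congr rfl fun i _ => map_sum _ _ _]
      exact Finset.sum_congr rfl fun i _ => Finset.sum_congr rfl fun l _ =>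
        pr_hom Bc ρ (hom_mul Bc ρ hρ (hom_pr Bc ρ i a) (hom_pr Bc ρ l b)) j
    refine ⟨fun j hj => ?_, ?_⟩
    · rw [h]
      refine Finset.sum_eq_zero fun i _ => Finset.sum_eq_zero fun l _ => ?_
      split_ifs with hjl
      · rcases lt_or_ge m i with hi | hi
        · rw [hle ha i hi, zero_mul]
        · rw [hle hb l (by omega), mul_zero]
      · rfl
    · rw [h, Finset.sum_eq_single m, Finset.sum_eq_single n, if_pos rfl]
      · intro l _ hl
        rw [if_neg (by omega)]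
      · exact fun h => absurd (Finset.mem_insert_self _ _) h
      · intro i _ hi
        refine Finset.sum_eq_zero fun l _ => ?_
        split_ifs with hjl
        · rcases lt_or_gt_of_ne hi with hi | hi
          · rw [hle hb l (by omega), mul_zero]
          · rw [hle ha i hi, zero_mul]
        · rfl
      · exact fun h => absurd (Finset.mem_insert_self _ _) h
  refine ⟨fun g j hj => ?_, (key a ha b hb).2⟩
  rw [act_mult ρ hρ]
  exact (key _ (Fil_act Bc ρ ha g) _ (Fil_act Bc ρ hb g)).1 j hj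

end Algebra

end Groth.Agent.Lib.H1.Grosshans
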